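import Mathlib
import Cfsg.Prelude.Def_KGroupFacts

/-!
# `A / B` embeds into `Out B` when `C_A(B) ≤ B`
-/

set_option autoImplicit false

namespace Cfsg.Agent.H816.OutEmb

open Subgroup

universe u v

/-- `Out` of isomorphic groups -/
theorem out_congr {A : Type u} {B : Type v} [Group A] [Group B] (e : A ≃* B) :
    Nonempty (Cfsg.Out A ≃* Cfsg.Out B) := by
  refine ⟨QuotientGroup.congr (Cfsg.Inn A) (Cfsg.Inn B) (MulAut.congr e) ?_⟩
  ext φ
  constructor
  · rintro ⟨ψ, ⟨a, rfl⟩, rfl⟩
    refine ⟨e a, ?_⟩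
    ext b
    simp [MulAut.congr, MulAut.conj_apply]
  · rintro ⟨b, rfl⟩
    refine ⟨MulAut.conj (e.symm b), ⟨e.symm b, rfl⟩, ?_⟩
    ext c
    simp [MulAut.congr, MulAut.conj_apply]

theorem exists_hom {A : Type u} [Group A] (B : Subgroup A) [B.Normal] (hc : centralizer (B : Set A) ≤ B) :
    ∃ φ : A →* Cfsg.Out B, φ.ker = B := by
  refine ⟨(QuotientGroup.mk' (Cfsg.Inn B)).comp (MulAut.conjNormal : A →* MulAut B), ?_⟩
  ext a
  rw [MonoidHom.mem_ker, MonoidHom.comp_apply, QuotientGroup.mk'_apply, QuotientGroup.eq_one_iff]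
  constructor
  · rintro ⟨b, hb⟩
    have h1 : (b : A)⁻¹ * a ∈ centralizer (B : Set A) := by
      rw [mem_centralizer_iff]
      intro x hx
      have h2 := congrArg (fun f : MulAut B => ((f ⟨x, hx⟩ : B) : A)) hb
      simp only [MulAut.conj_apply, MulAut.conjNormal_apply] at h2
      have h3 : (b : A) * x * (b : A)⁻¹ = a * x * a⁻¹ := h2
      calc x * ((b : A)⁻¹ * a) = (b : A)⁻¹ * (b * x * (b : A)⁻¹) * a := by group
        _ = (b : A)⁻¹ * a * x := by rw [h3]; group
    have h2 : a = b * ((b : A)⁻¹ * a) := by group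
    rw [h2]
    exact mul_mem b.2 (hc h1)
  · intro ha
    refine ⟨⟨a, ha⟩, ?_⟩
    ext x
    simp [MulAut.conj_apply, MulAut.conjNormal_apply]

theorem index_dvd {A : Type u} [Group A] (B : Subgroup A) [B.Normal] (hc : centralizer (B : Set A) ≤ B) :
    B.index ∣ Nat.card (Cfsg.Out B) := by
  obtain ⟨φ, hφ⟩ := exists_hom B hc
  have h1 : B.index = Nat.card φ.range := by rw [← index_ker, hφ]
  rw [h1]
  exact card_subgroup_dvd_card φ.range

/-- the version for a section `M / N` with trivial centraliser -/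
theorem index_dvd_of_section {C : Type u} [Group C] (N M : Subgroup C) [hN : N.Normal] [hM : M.Normal] (hNM : N ≤ M)
    {P : Type v} [Group P] (e : (M ⧸ N.subgroupOf M) ≃* P)
    (hc : ∀ c : C, (∀ m ∈ M, c * m * c⁻¹ * m⁻¹ ∈ N) → c ∈ M) : M.index ∣ Nat.card (Cfsg.Out P) := by
  let π := QuotientGroup.mk' N
  have hπ : Function.Surjective π := QuotientGroup.mk'_surjective N
  have hn : (M.map π).Normal := hM.map π hπ
  have h1 : centralizer ((M.map π : Subgroup (C ⧸ N)) : Set (C ⧸ N)) ≤ M.map π := by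
    intro x hx
    obtain ⟨c, rfl⟩ := hπ x
    refine ⟨c, hc c fun m hm => ?_, rfl⟩
    have h2 := mem_centralizer_iff.1 hx (π m) ⟨m, hm, rfl⟩
    have h3 : π (c * m * c⁻¹ * m⁻¹) = 1 := by
      rw [map_mul, map_mul, map_mul, ← h2, map_inv, map_inv]; group
    exact (QuotientGroup.eq_one_iff _).1 h3
  have h2 : (M.map π).comap π = M := by
    rw [comap_map_eq, QuotientGroup.ker_mk', sup_eq_left.2 hNM]
  have h3 : (M.map π).index = M.index := by
    rw [← index_comap_of_surjective (M.map π) hπ, h2]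
  have h4 := index_dvd (M.map π) h1
  rw [h3] at h4
  have h5 : Nonempty ((M ⧸ N.subgroupOf M) ≃* M.map π) := by
    have h6 : (π.subgroupMap M).ker = N.subgroupOf M := by
      ext x
      rw [MonoidHom.mem_ker, mem_subgroupOf]
      constructor
      · intro h
        exact (QuotientGroup.eq_one_iff _).1 (congrArg Subtype.val h)
      · intro h
        exact Subtype.ext ((QuotientGroup.eq_one_iff _).2 h)
    exact ⟨(QuotientGroup.quotientMulEquivOfEq h6.symm).trans
      (QuotientGroup.quotientKerEquivOfSurjective _ (π.subgroupMap_surjective M))⟩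
  obtain ⟨e'⟩ := h5
  obtain ⟨e''⟩ := out_congr (e'.symm.trans e)
  rwa [Nat.card_congr e''.toEquiv] at h4

end Cfsg.Agent.H816.OutEmb
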