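import Mathlib
import Cfsg.Agent.H830.TypeConv
import Cfsg.Agent.H831.Types
import Cfsg.Agent.H845.T6Iso
import Cfsg.Agent.S1714
import Cfsg.Agent.S1697
import Cfsg.Agent.R08.FiTwentyThree
import Cfsg.Agent.KFacts.FiTTh.Has

set_option autoImplicit false
set_option linter.style.haveILetI false

/-!
# An involution with quasisimple centralizer of type `2·M(22)` is a transposition of `Fi23`
-/

namespace Cfsg.Agent.H816.Quasi

open Cfsg Cfsg.Agent.SporadicStructure.FischerSpace
open Cfsg.Agent.Fischer480.Defs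

universe u

section Fi23

open Cfsg.Spor (Fi23)
open Cfsg.Agent.R08.FiTwentyThree
open Cfsg.Agent.R01 (Fi22Facts.T)
open Cfsg.Agent.Fischer.Fi23Class (K)
open Cfsg.Agent.Fischer.Fi23Z (z0)

theorem isSimple23 : IsSimpleGroup Fi23 := Cfsg.Agent.S1697.result.1

theorem card23 : Nat.card Fi23 = 4089470473293004800 := Cfsg.Agent.S1697.result.2

theorem comm_top : commutator Fi23 = ⊤ := by
  haveI := isSimple23
  rcases isSimple23.eq_bot_or_eq_top_of_normal (commutator Fi23) inferInstance with h | h
  · exfalso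
    rw [commutator_eq_bot_iff_center_eq_top] at h
    obtain ⟨x, hx, y, hy, hxy⟩ : ∃ x ∈ (D : Set Fi23), ∃ y ∈ (D : Set Fi23), x * y ≠ y * x := by
      by_contra hcon
      push Not at hcon
      have h1 := perfect
      have h2 : (commutator K) = ⊥ := by
        rw [commutator_eq_bot_iff_center_eq_top, eq_top_iff]
        intro a _
        rw [Subgroup.mem_center_iff]
        intro b
        apply Subtype.ext
        have h3 : (b : Fi23) ∈ Subgroup.center Fi23 := by rw [h]; trivial
        exact (Subgroup.mem_center_iff.1 h3 _).symm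
      rw [h1] at h2
      have h3 : zK ∈ (⊥ : Subgroup K) := by rw [← h2]; trivial
      exact zK_ne (Subgroup.mem_bot.1 h3)
    have h3 : x ∈ Subgroup.center Fi23 := by rw [h]; trivial
    exact hxy (Subgroup.mem_center_iff.1 h3 y).symm
  · exact h

theorem fgroup_of_simple {G : Type u} [Group G] {E : Set G} (hE : IsThreeTranspositionClass E)
    (hs : IsSimpleGroup G) (hp : commutator G = ⊤) : FGroup E := by
  refine ⟨hE, ?_, ?_⟩
  · intro N hN hsol
    rcases hs.eq_bot_or_eq_top_of_normal N hN with h | h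
    · exact h
    · exfalso
      subst h
      haveI := hsol
      have h1 : Group.IsSolvable G := Group.isSolvable_of_surjective
        (f := (Subgroup.topEquiv : (⊤ : Subgroup G) ≃* G).toMonoidHom) (MulEquiv.surjective _)
      obtain ⟨k, hk⟩ := h1
      have h4 : ∀ k, derivedSeries G k = ⊤ := by
        intro k
        induction k with
        | zero => rfl
        | succ k ihk => rw [derivedSeries_succ, ihk]; exact hp
      rw [h4 k] at hk
      haveI := hs.toNontrivial
      exact absurd hk top_ne_bot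
  · rw [hp]; exact hp

theorem fgroup23 : FGroup (D : Set Fi23) :=
  fgroup_of_simple isThreeTranspositionClass isSimple23 comm_top

open Classical in
theorem cIso_loc : CIso (Loc (D : Set Fi23) z0) Fi22Facts.T := by
  refine ⟨fun x => if h : x ∈ K then pi ⟨x, h⟩ else 1, ⟨?_, ?_, ?_⟩, ?_⟩
  · intro x hx
    have hK : x ∈ K := (mem_K_iff x).2 hx.2.2.symm.eq
    simp only [dif_pos hK]
    exact lifted.map ⟨x, hK⟩ ⟨hx.1, hx.2.1⟩
  · intro x hx y hy hxy
    have hK : x ∈ K := (mem_K_iff x).2 hx.2.2.symm.eq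
    have hK' : y ∈ K := (mem_K_iff y).2 hy.2.2.symm.eq
    simp only [dif_pos hK, dif_pos hK'] at hxy
    exact congrArg Subtype.val (lifted.inj ⟨x, hK⟩ ⟨hx.1, hx.2.1⟩ ⟨y, hK'⟩ ⟨hy.1, hy.2.1⟩ hxy)
  · intro t ht
    obtain ⟨x, hx, rfl⟩ := lifted.surj t ht
    refine ⟨x, ⟨hx.1, hx.2, ?_⟩, ?_⟩
    · exact ((mem_K_iff _).1 x.2).symm
    · simp only [dif_pos x.2]
  · intro x hx y hy
    have hK : x ∈ K := (mem_K_iff x).2 hx.2.2.symm.eq
    have hK' : y ∈ K := (mem_K_iff y).2 hy.2.2.symm.eq
    simp only [dif_pos hK, dif_pos hK']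
    constructor
    · intro h
      have h1 : (⟨x, hK⟩ : K) * ⟨y, hK'⟩ = ⟨y, hK'⟩ * ⟨x, hK⟩ := Subtype.ext h.eq
      show _ = _
      rw [← map_mul, h1, map_mul]
    · intro h
      exact congrArg Subtype.val (comm_of_image (x := ⟨x, hK⟩) (y := ⟨y, hK'⟩)
        ⟨hx.1, hx.2.1⟩ ⟨hy.1, hy.2.1⟩ h.eq)

theorem isT7_of (h6 : IsT6 Fi22Facts.T) : IsT7 (D : Set Fi23) := by
  refine Cfsg.Agent.S0480U.CaseDF.caseF6 fgroup23 (fun x hx => ?_)
  exact Cfsg.Agent.Fischer480.Transport.isT6 (Cfsg.Agent.Fischer480.Transport.CIso.trans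
    (Cfsg.Agent.Fischer480.Main.loc_cIso_loc isThreeTranspositionClass hx z0_mem_D) cIso_loc) h6

/-- an involution of `Fi23` whose centralizer has order divisible by 13 is a transposition -/
theorem isConj_of_thirteen {x : Fi23} (hx : x * x = 1) (h1 : x ≠ 1)
    (h : 13 ∣ Nat.card (Subgroup.centralizer ({x} : Set Fi23))) : IsConj x z0 := by
  rcases KFacts.FiTTh.Has.inv x hx h1 with h2 | h2 | h2
  · exact h2
  · exfalso
    rw [KFacts.FiTTh.Has.card_cent_of_isConj h2] at h
    exact KFacts.FiTTh.Cent.c2 h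
  · exfalso
    rw [KFacts.FiTTh.Has.card_cent_of_isConj h2] at h
    exact KFacts.FiTTh.Cent.c3 h

end Fi23

/-! ### Transport -/

section Transport

variable {G H : Type*} [Group G] [Group H]

theorem cIso_map (e : G ≃* H) {E : Set G} {E' : Set H} (he : ∀ x, e x ∈ E' ↔ x ∈ E) :
    CIso E E' := by
  refine ⟨e, ⟨fun x hx => (he x).2 hx, fun x _ y _ h => e.injective h, ?_⟩, ?_⟩
  · intro y hy
    refine ⟨e.symm y, (he _).1 (by rwa [e.apply_symm_apply]), e.apply_symm_apply y⟩
  · intro a _ b _
    constructor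
    · intro h; exact h.map e
    · intro h
      have := h.map e.symm
      simpa using this

theorem class_map (e : G ≃* H) {E : Set G} {E' : Set H} (he : ∀ x, e x ∈ E' ↔ x ∈ E)
    (h : IsThreeTranspositionClass E) : IsThreeTranspositionClass E' := by
  have hs : ∀ y ∈ E', e.symm y ∈ E := fun y hy => (he _).1 (by rwa [e.apply_symm_apply])
  obtain ⟨⟨h1, h2⟩, ⟨d, hd, hEd⟩, h3⟩ := h
  refine ⟨⟨?_, ?_⟩, ⟨e d, (he d).2 hd, ?_⟩, ?_⟩
  · intro y hy
    have := h1 _ (hs y hy)
    rwa [← e.symm.orderOf_eq y]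
  · intro x hx y hy
    rcases h2 _ (hs x hx) _ (hs y hy) with h | h
    · left
      have := congrArg e h
      simpa using this
    · right
      have := congrArg e h
      simpa using this
  · ext y
    constructor
    · intro hy
      have h4 := hs y hy
      rw [hEd] at h4
      obtain ⟨g, hg⟩ := isConj_iff.1 (show IsConj d (e.symm y) from h4)
      refine isConj_iff.2 ⟨e g, ?_⟩
      rw [← map_inv, ← map_mul, ← map_mul, hg, e.apply_symm_apply]
    · intro hy
      obtain ⟨g, hg⟩ := isConj_iff.1 (show IsConj (e d) y from hy)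
      have h4 : e.symm y ∈ E := by
        rw [hEd]
        refine isConj_iff.2 ⟨e.symm g, ?_⟩
        rw [← hg]
        simp
      rw [← e.apply_symm_apply y]
      exact (he _).2 h4
  · have h4 : (Subgroup.closure E).map (e : G →* H) = Subgroup.closure E' := by
      rw [MonoidHom.map_closure]
      congr 1
      ext y
      constructor
      · rintro ⟨x, hx, rfl⟩
        exact (he x).2 hx
      · intro hy
        exact ⟨e.symm y, hs y hy, e.apply_symm_apply y⟩
    rw [← h4, h3, ← MonoidHom.range_eq_map]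
    exact MonoidHom.range_eq_top.2 e.surjective

end Transport

end Cfsg.Agent.H816.Quasi
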