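import Cfsg.Agent.H816.MRun
import Cfsg.Agent.MonsterX.PairValTab

/-!
# The representatives of the pairs of axes of the Monster: tables and certificates (helper816)

`Ent` : the representatives `(j, m, b)` of the pairs `(a₀, y)`; `hT`, `sT` : the masses of `d j` in
the `98304`-part and in the `98280`-part, times `65536`; `pT` : for the values `4 / 32` the type of
the pair: `1` for `3C`, `2` for `4B`.
-/

set_option autoImplicit false

namespace Cfsg.Agent.H816.MTab

open Cfsg.Agent.MonsterX Cfsg.Agent.MonsterX.InstData Cfsg.Agent.MonsterX.PairValTab Cfsg.Agent.MonsterX.CertUTab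
open Cfsg.Agent.H816.MRun

/-- The representatives. -/
abbrev Ent := ℕ × ℕ × Bool

/-- The masses in the `98304`-part. -/
def hT : List ℕ := [0, 0, 262144, 229376, 262144, 248832, 248832, 258048, 253952, 256000, 256000, 257024]

/-- The masses in the `98280`-part. -/
def sT : List ℕ := [262144, 491520, 235520, 280064, 249856, 259552, 263136, 254976, 258304, 255744, 256640, 255584]

/-- The types of the pairs with value `4 / 32`. -/
def pT : List (List (ℕ × ℕ)) := [
  [(0, 0), (0, 0), (0, 0), (0, 0)],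
  [(0, 0), (0, 0), (0, 0), (2, 2)],
  [(0, 0), (0, 0), (2, 2), (0, 0), (0, 0), (0, 0)],
  [(0, 2), (0, 2), (0, 0), (0, 2), (2, 2), (0, 2), (0, 0), (0, 0), (0, 0), (0, 0)],
  [(0, 0), (0, 2), (2, 2), (0, 0), (0, 0), (0, 0), (1, 1)],
  [(0, 0), (0, 0), (2, 0), (0, 0), (0, 0), (0, 0), (0, 0), (0, 0), (0, 0)],
  [(0, 0), (2, 0), (0, 2), (0, 2), (0, 0), (0, 0), (0, 0), (0, 0), (0, 0), (0, 0), (2, 2)],
  [(0, 0), (0, 1), (0, 0), (2, 1), (0, 0)],
  [(2, 0), (0, 0), (0, 0), (0, 0), (2, 2), (0, 0), (0, 2), (0, 0), (0, 0), (0, 0), (0, 0), (0, 0), (0, 0), (0, 0)],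
  [(0, 0), (0, 0), (0, 0), (0, 0), (2, 0), (0, 0), (0, 2), (0, 0), (0, 0), (0, 0), (0, 0), (0, 0)],
  [(0, 2), (2, 0), (0, 0), (0, 0), (0, 0), (0, 0), (2, 0), (0, 0), (0, 0), (0, 0), (0, 0), (1, 0)],
  [(2, 0), (0, 0), (0, 0), (0, 0), (0, 0), (0, 0), (0, 0), (0, 0), (2, 0), (0, 2), (0, 0), (0, 2), (0, 0), (0, 0), (0, 0), (0, 0), (1, 0), (0, 0), (0, 0), (0, 0), (0, 0)]]

/-- `256 F(a₀, y)` -/
def v0 (e : Ent) : ℤ := match e.2.2 with
  | true => (vs e.1 e.2.1).2
  | false => (vs e.1 e.2.1).1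

/-- `256 F(a₁, y)` -/
def v1 (e : Ent) : ℤ := match e.2.2 with
  | true => (vs e.1 e.2.1).1
  | false => (vs e.1 e.2.1).2

/-- The type of `(a₀, y)`. -/
def p0 (e : Ent) : ℕ := match e.2.2 with
  | true => ((pT.getD e.1 []).getD e.2.1 (0, 0)).2
  | false => ((pT.getD e.1 []).getD e.2.1 (0, 0)).1

/-- The type of `(a₁, y)`. -/
def p1 (e : Ent) : ℕ := match e.2.2 with
  | true => ((pT.getD e.1 []).getD e.2.1 (0, 0)).1
  | false => ((pT.getD e.1 []).getD e.2.1 (0, 0)).2

/-- The mass of a type. -/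
def pm (p : ℕ) : ℕ := match p with
  | 1 => 258048
  | _ => 229376

/-- The word of a representative. -/
noncomputable def wd (e : Ent) : List ℕ := bj e.1 ++ (uw e.1 e.2.1 ++ match e.2.2 with
  | true => [1]
  | false => [])

/-- The list of masses to be checked for the class `j` and the type `p`. -/
noncomputable def ml (j p : ℕ) : List (ℕ × ℕ) :=
  (ProgZ.hiM, hT.getD j 0) :: (sigM, sT.getD j 0) :: match p with
  | 0 => []
  | p + 1 => [(mt1, pm (p + 1))]

/-- **The kernel check** of a certificate: `h` moves the representative `e` to `e'`. -/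
noncomputable def cer (e : Ent) (h : List ℕ) (e' : Ent) : Bool :=
  chk 8 (wd e ++ h) (v0 e') (v1 e') (ml e'.1 (p1 e'))

/-- The kernel check of the masses of `d j`. -/
noncomputable def clsC (j : ℕ) (c c' : ℤ) : Bool := chk 8 (bj j) c c' (ml j 0)

/-- The kernel check of the types of a representative. -/
noncomputable def typC (j m : ℕ) (l : List (ℕ × ℕ)) : Bool :=
  chk 8 (bj j ++ uw j m) (vs j m).1 (vs j m).2 l

end Cfsg.Agent.H816.MTab
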