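import Cfsg.Agent.S3035
import Cfsg.Agent.Lib.Dihedral
import Cfsg.Agent.Lib.Cores

/-!
# Recognition of `C_G(p) = ⟨p⟩ × S₅` for an element `p` of order 11 (helper816)
-/

set_option autoImplicit false

namespace Cfsg.Agent.H816.CPAbs

open Subgroup

/-- `A₆` has no element of order six. -/
theorem no_six_a6 : ∀ g : Equiv.Perm (Fin 6), Equiv.Perm.sign g = 1 → g ^ 6 = 1 → g ^ 2 = 1 ∨ g ^ 3 = 1 := by
  decide +kernel

/-- Transport of `no_six`. -/
theorem no_six_equiv {K H : Type*} [Group K] [Group H] (e : K ≃* H)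
    (h : ∀ g : H, g ^ 6 = 1 → g ^ 2 = 1 ∨ g ^ 3 = 1) : ∀ g : K, orderOf g ≠ 6 := by
  intro g hg
  have h6 : (e g) ^ 6 = 1 := by rw [← map_pow, ← hg, pow_orderOf_eq_one, map_one]
  rcases h (e g) h6 with h1 | h1
  · rw [← map_pow, map_eq_one_iff e e.injective] at h1
    have := orderOf_dvd_of_pow_eq_one h1
    rw [hg] at this
    norm_num at this
  · rw [← map_pow, map_eq_one_iff e e.injective] at h1
    have := orderOf_dvd_of_pow_eq_one h1
    rw [hg] at this
    norm_num at this

theorem no_six_a6' : ∀ g : ↥(alternatingGroup (Fin 6)), g ^ 6 = 1 → g ^ 2 = 1 ∨ g ^ 3 = 1 := by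
  intro g hg
  have h1 : (g : Equiv.Perm (Fin 6)) ^ 6 = 1 := by
    rw [← SubgroupClass.coe_pow, hg]; rfl
  rcases no_six_a6 g (Equiv.Perm.mem_alternatingGroup.1 g.2) h1 with h2 | h2
  · exact Or.inl (Subtype.ext (by rw [SubgroupClass.coe_pow]; exact h2))
  · exact Or.inr (Subtype.ext (by rw [SubgroupClass.coe_pow]; exact h2))

theorem not_five {K : Type*} [Group K] [Finite K] {w : K} (hw : orderOf w = 5) {n : ℕ} (hn : Nat.card K = n)
    (h : ¬ 5 ∣ n) : False := h (by rw [← hn, ← hw]; exact orderOf_dvd_natCard w)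

/-- A group with an involution whose centralizer is dihedral of order 8, an element of order 6 and an element `t` of
order 3 moving `z` inside a 2-subgroup is `S₅`. -/
theorem equiv_s5 {K : Type*} [Group K] [Finite K] {z r s t v w : K} (hr : orderOf r = 4) (hs : s * s = 1)
    (hsr : s * r * s = r⁻¹) (hs' : s ∉ zpowers r) (hz : z = r ^ 2)
    (hC : ∀ g : K, g * z = z * g → g ∈ closure {r, s}) (ht : t ^ 3 = 1)
    (htz : t * z * t⁻¹ ∈ closure {r, s}) (htz' : t * z * t⁻¹ ≠ z) (hv : orderOf v = 6)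
    (hw : orderOf w = 5) : Nonempty (K ≃* Equiv.Perm (Fin 5)) := by
  have hz2 : orderOf z = 2 := by
    rw [hz, orderOf_pow, hr]; norm_num
  have hsz : s * z = z * s := by
    have h1 : s * r ^ 2 * s = (r ^ 2)⁻¹ := by
      calc s * r ^ 2 * s = (s * r * s) * (s * r * s) := by
            rw [pow_two]; simp only [mul_assoc]
            rw [← mul_assoc s s, hs, one_mul]
        _ = (r ^ 2)⁻¹ := by rw [hsr, pow_two, mul_inv_rev]
    have h2 : (r ^ 2)⁻¹ = r ^ 2 := by
      rw [inv_eq_iff_mul_eq_one, ← pow_add, show 2 + 2 = orderOf r by rw [hr], pow_orderOf_eq_one]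
    rw [h2] at h1
    rw [hz]
    calc s * r ^ 2 = s * r ^ 2 * (s * s) := by rw [hs, mul_one]
      _ = r ^ 2 * s := by rw [← mul_assoc, h1]
  have hrz : r * z = z * r := by rw [hz, pow_two, mul_assoc]
  have hcard : Nat.card (closure ({r, s} : Set K)) = 8 :=
    Cfsg.Agent.Lib.Dihedral.card_closure r s hr hs hsr hs'
  have hCeq : centralizer ({z} : Set K) = closure {r, s} := by
    apply le_antisymm
    · intro g hg
      exact hC g (mem_centralizer_singleton_iff.1 hg)
    · rw [closure_le]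
      rintro x (rfl | hx)
      · exact mem_centralizer_singleton_iff.2 hrz
      · rw [Set.mem_singleton_iff] at hx
        subst hx
        exact mem_centralizer_singleton_iff.2 hsz
  have hD : Nonempty (↥(centralizer ({z} : Set K)) ≃* DihedralGroup 4) := by
    rw [hCeq]
    exact Cfsg.Agent.Lib.Dihedral.nonempty_mulEquiv_closure r s hr hs hsr hs'
  rcases Cfsg.Agent.S3035.result z hz2 hD with h | ⟨⟨e⟩⟩ | h | ⟨⟨e⟩⟩ | ⟨⟨e⟩⟩
  · exfalso
    have hN : (Cfsg.oddCore K).Normal := Cfsg.Agent.Lib.Cores.pPrimeCore_normal 2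
    have hodd : (Nat.card (Cfsg.oddCore K)).Coprime 2 := Cfsg.Agent.Lib.Cores.pPrimeCore_coprime 2
    -- `t` is in the core
    have ht1 : t ∈ Cfsg.oddCore K := by
      have h1 : t ∈ centralizer ({z} : Set K) ⊔ Cfsg.oddCore K := by rw [h]; trivial
      obtain ⟨c, hc, o, ho, rfl⟩ := mem_sup_of_normal_right.1 h1
      have h2 : c ^ 8 = 1 := by
        rw [hCeq] at hc
        have := pow_card_eq_one' (x := (⟨c, hc⟩ : closure ({r, s} : Set K)))
        rw [hcard] at this
        exact congrArg Subtype.val this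
      have h3 : (QuotientGroup.mk (c * o) : K ⧸ Cfsg.oddCore K) = QuotientGroup.mk c := by
        rw [QuotientGroup.eq]
        have : (c * o)⁻¹ * c = o⁻¹ := by group
        rw [this]
        exact inv_mem ho
      have h4 : (QuotientGroup.mk (c * o) : K ⧸ Cfsg.oddCore K) ^ 8 = 1 := by
        rw [h3, ← QuotientGroup.mk_pow, h2]; rfl
      have h5 : (QuotientGroup.mk (c * o) : K ⧸ Cfsg.oddCore K) ^ 3 = 1 := by
        rw [← QuotientGroup.mk_pow, ht]; rfl
      have h6 : (QuotientGroup.mk (c * o) : K ⧸ Cfsg.oddCore K) = 1 := by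
        have e9 : (QuotientGroup.mk (c * o) : K ⧸ Cfsg.oddCore K) ^ 9 = 1 := by
          rw [show 9 = 3 * 3 from rfl, pow_mul, h5, one_pow]
        rw [pow_succ, h4, one_mul] at e9
        exact e9
      exact (QuotientGroup.eq_one_iff _).1 h6
    have h7 : t * z * t⁻¹ * z⁻¹ ∈ Cfsg.oddCore K := by
      have : t * z * t⁻¹ * z⁻¹ = t * (z * t⁻¹ * z⁻¹) := by group
      rw [this]
      exact mul_mem ht1 (hN.conj_mem _ (inv_mem ht1) z)
    have h8 : t * z * t⁻¹ * z⁻¹ ∈ closure ({r, s} : Set K) := by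
      refine mul_mem htz (inv_mem ?_)
      rw [hz]
      exact pow_mem (subset_closure (by simp)) 2
    have h9 : t * z * t⁻¹ * z⁻¹ = 1 := by
      rw [← orderOf_eq_one_iff]
      have e1 : orderOf (t * z * t⁻¹ * z⁻¹) ∣ Nat.card (Cfsg.oddCore K) := by
        have := orderOf_dvd_natCard (⟨_, h7⟩ : Cfsg.oddCore K)
        rwa [orderOf_mk] at this
      have e2 : orderOf (t * z * t⁻¹ * z⁻¹) ∣ 8 := by
        have := orderOf_dvd_natCard (⟨_, h8⟩ : closure ({r, s} : Set K))
        rwa [orderOf_mk, hcard] at this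
      have e3 : (Nat.card (Cfsg.oddCore K)).Coprime 8 := by
        rw [show 8 = 2 ^ 3 from rfl]
        exact Nat.Coprime.pow_right 3 hodd
      exact Nat.dvd_one.1 (e3.gcd_eq_one ▸ Nat.dvd_gcd e1 e2)
    exact htz' (mul_inv_eq_one.1 h9)
  · refine (not_five hw (n := 24) ?_ (by norm_num)).elim
    rw [Nat.card_congr e.toEquiv, Nat.card_eq_fintype_card, Fintype.card_perm, Fintype.card_fin]; rfl
  · exact h
  · refine (not_five hw (n := 168) ?_ (by norm_num)).elim
    rw [Nat.card_congr e.toEquiv, Cfsg.Agent.S3035.card_sl]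
  · exact absurd hv (no_six_equiv e no_six_a6' v)

/-- **Recognition of `C_G(p) = ⟨p⟩ × S₅`.** -/
theorem main {G : Type*} [Group G] [Finite G] {p z r s t v w : G} (hp : orderOf p = 11)
    (h11 : ¬ 121 ∣ Nat.card G) (hr : orderOf r = 4) (hs : s * s = 1)
    (hsr : s * r * s = r⁻¹) (hs' : s ∉ zpowers r) (hz : z = r ^ 2) (hrp : r * p = p * r) (hsp : s * p = p * s)
    (hC : ∀ g : G, g * p = p * g → g * z = z * g → ∃ n : ℕ, ∃ f ∈ closure ({r, s} : Set G), g = p ^ n * f)
    (ht : t ^ 3 = 1) (htp : t * p = p * t)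
    (htz : t * z * t⁻¹ ∈ closure {r, s}) (htz' : t * z * t⁻¹ ≠ z) (hv : orderOf v = 6) (hvp : v * p = p * v)
    (hw : orderOf w = 5) (hwp : w * p = p * w) :
    ∃ K : Subgroup G, Nonempty (K ≃* Equiv.Perm (Fin 5)) ∧ (∀ k ∈ K, k * p = p * k) ∧
      ∀ g : G, g * p = p * g → ∃ k ∈ K, ∃ n : ℕ, g = p ^ n * k := by
  classical
  set C : Subgroup G := centralizer ({p} : Set G) with hCdef
  have mC : ∀ {g : G}, g ∈ C ↔ g * p = p * g := mem_centralizer_singleton_iff
  have hpC : p ∈ C := mC.2 rfl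
  let p' : C := ⟨p, hpC⟩
  have hp' : orderOf p' = 11 := by rw [orderOf_mk, hp]
  let P : Subgroup C := zpowers p'
  have hPc : ∀ g : C, g * p' = p' * g := fun g => Subtype.ext (mC.1 g.2)
  have hPn : P.Normal := by
    refine ⟨fun x hx g => ?_⟩
    obtain ⟨n, rfl⟩ := mem_zpowers_iff.1 hx
    have h1 : Commute g (p' ^ n) := (show Commute g p' from hPc g).zpow_right n
    rw [h1.eq, mul_inv_cancel_right]
    exact zpow_mem (mem_zpowers _) n
  have hPcard : Nat.card P = 11 := by rw [Nat.card_zpowers, hp']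
  have hcop : Nat.Coprime (Nat.card P) P.index := by
    rw [hPcard]
    refine (Nat.Prime.coprime_iff_not_dvd (by norm_num)).2 fun hd => h11 ?_
    have h1 : 11 * 11 ∣ Nat.card C := by
      rw [← card_mul_index P, hPcard]
      exact mul_dvd_mul_left 11 hd
    exact dvd_trans h1 (card_subgroup_dvd_card C)
  obtain ⟨K', hK'⟩ := exists_right_complement'_of_coprime hcop
  -- every element is a product
  have hdec : ∀ g : C, ∃ n : ℕ, ∃ k ∈ K', g = p' ^ n * k := by
    intro g
    have h1 : g ∈ P ⊔ K' := by rw [hK'.sup_eq_top]; trivial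
    obtain ⟨x, hx, k, hk, rfl⟩ := mem_sup_of_normal_left.1 h1
    obtain ⟨n, rfl⟩ := (mem_zpowers_iff_mem_range_orderOf.trans Finset.mem_image).1 hx |>.imp fun n h => h.2
    exact ⟨n, k, hk, rfl⟩
  -- criterion for membership
  have hmem : ∀ (g : C) (m : ℕ), Nat.Coprime 11 m → g ^ m = 1 → g ∈ K' := by
    intro g m hm hg
    obtain ⟨n, k, hk, rfl⟩ := hdec g
    have hcomm : Commute (p' ^ n) k := (show Commute p' k from (hPc k).symm).pow_left n
    rw [hcomm.mul_pow] at hg
    have h1 : (p' ^ n) ^ m ∈ K' := by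
      rw [eq_inv_of_mul_eq_one_left hg]
      exact inv_mem (pow_mem hk m)
    have h2 : (p' ^ n) ^ m ∈ P := pow_mem (pow_mem (mem_zpowers _) n) m
    have h3 : (p' ^ n) ^ m = 1 := by
      have := hK'.disjoint.le_bot (mem_inf.2 ⟨h2, h1⟩)
      exact mem_bot.1 this
    rw [← pow_mul] at h3
    have h4 := orderOf_dvd_of_pow_eq_one h3
    rw [hp'] at h4
    have h5 : 11 ∣ n := hm.dvd_of_dvd_mul_right h4
    obtain ⟨j, rfl⟩ := h5
    rw [pow_mul, ← hp', pow_orderOf_eq_one, one_pow, one_mul]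
    exact hk
  have hKdisj : ∀ (n : ℕ), p' ^ n ∈ K' → p' ^ n = 1 := fun n h =>
    mem_bot.1 (hK'.disjoint.le_bot (mem_inf.2 ⟨pow_mem (mem_zpowers _) n, h⟩))
  have hzp : z * p = p * z := by
    rw [hz]
    exact ((show Commute r p from hrp).pow_left 2).eq
  -- the elements in `K'`
  let rC : C := ⟨r, mC.2 hrp⟩
  let sC : C := ⟨s, mC.2 hsp⟩
  let tC : C := ⟨t, mC.2 htp⟩
  let vC : C := ⟨v, mC.2 hvp⟩
  let wC : C := ⟨w, mC.2 hwp⟩
  have hrK : rC ∈ K' := hmem rC 4 (by norm_num) (Subtype.ext (by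
    show r ^ 4 = 1
    rw [← hr, pow_orderOf_eq_one]))
  have hsK : sC ∈ K' := hmem sC 2 (by norm_num) (Subtype.ext (by
    show s ^ 2 = 1
    rw [pow_two, hs]))
  have htK : tC ∈ K' := hmem tC 3 (by norm_num) (Subtype.ext ht)
  have hvK : vC ∈ K' := hmem vC 6 (by norm_num) (Subtype.ext (by
    show v ^ 6 = 1
    rw [← hv, pow_orderOf_eq_one]))
  have hwK : wC ∈ K' := hmem wC 5 (by norm_num) (Subtype.ext (by
    show w ^ 5 = 1
    rw [← hw, pow_orderOf_eq_one]))
  let rK : K' := ⟨rC, hrK⟩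
  let sK : K' := ⟨sC, hsK⟩
  let tK : K' := ⟨tC, htK⟩
  let vK : K' := ⟨vC, hvK⟩
  let wK : K' := ⟨wC, hwK⟩
  let φ : K' →* G := C.subtype.comp K'.subtype
  have hφ : Function.Injective φ := fun a b h => Subtype.ext (Subtype.ext h)
  have hcl : ∀ x : K', φ x ∈ closure ({r, s} : Set G) → x ∈ closure ({rK, sK} : Set K') := by
    intro x hx
    have h1 : closure ({r, s} : Set G) = (closure ({rK, sK} : Set K')).map φ := by
      rw [MonoidHom.map_closure, Set.image_pair]
      rfl
    rw [h1] at hx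
    obtain ⟨y, hy, hyx⟩ := hx
    rw [← hφ hyx]
    exact hy
  have e5 : Nonempty (K' ≃* Equiv.Perm (Fin 5)) := by
    refine equiv_s5 (z := rK ^ 2) (r := rK) (s := sK) (t := tK) (v := vK) (w := wK) ?_ ?_ ?_ ?_ rfl ?_ ?_ ?_ ?_ ?_ ?_
    · rw [← orderOf_injective φ hφ rK]
      exact hr
    · exact hφ hs
    · exact hφ hsr
    · intro h
      obtain ⟨n, hn⟩ := mem_zpowers_iff.1 h
      apply hs'
      rw [mem_zpowers_iff]
      refine ⟨n, ?_⟩
      have := congrArg φ hn
      rw [map_zpow] at this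
      exact this
    · intro g hg
      apply hcl
      have h1 : φ g * p = p * φ g := mC.1 (g : C).2
      have h2 : φ g * z = z * φ g := by
        have := congrArg φ hg
        rw [map_mul, map_mul, map_pow] at this
        rw [hz]
        exact this
      obtain ⟨n, f, hf, hgf⟩ := hC (φ g) h1 h2
      -- `p ^ n ∈ K'`
      have hf8 : f ^ 8 = 1 := by
        have := pow_card_eq_one' (x := (⟨f, hf⟩ : closure ({r, s} : Set G)))
        rw [Cfsg.Agent.Lib.Dihedral.card_closure r s hr hs hsr hs'] at this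
        exact congrArg Subtype.val this
      have hfp : f * p = p * f := by
        have hle : closure ({r, s} : Set G) ≤ C := by
          rw [closure_le]
          rintro x (rfl | hx)
          · exact mC.2 hrp
          · rw [Set.mem_singleton_iff] at hx
            subst hx
            exact mC.2 hsp
        exact mC.1 (hle hf)
      have hfK : (⟨f, mC.2 hfp⟩ : C) ∈ K' := hmem _ 8 (by norm_num) (Subtype.ext hf8)
      have hgC : (g : C) = p' ^ n * ⟨f, mC.2 hfp⟩ := Subtype.ext hgf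
      have hpn : p' ^ n ∈ K' := by
        have h3 : p' ^ n = (g : C) * (⟨f, mC.2 hfp⟩ : C)⁻¹ := by rw [hgC, mul_inv_cancel_right]
        rw [h3]
        exact mul_mem g.2 (inv_mem hfK)
      have h4 := hKdisj n hpn
      have h5 : p ^ n = 1 := congrArg Subtype.val h4
      rw [h5, one_mul] at hgf
      rw [hgf]
      exact hf
    · exact hφ ht
    · apply hcl
      rw [map_mul, map_mul, map_inv, map_pow]
      rw [hz] at htz
      exact htz
    · intro h
      apply htz'
      have := congrArg φ h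
      rw [map_mul, map_mul, map_inv, map_pow] at this
      rw [hz]
      exact this
    · rw [← orderOf_injective φ hφ vK]
      exact hv
    · rw [← orderOf_injective φ hφ wK]
      exact hw
  refine ⟨K'.map C.subtype, ?_, ?_, ?_⟩
  · obtain ⟨e⟩ := e5
    exact ⟨(K'.equivMapOfInjective C.subtype C.subtype_injective).symm.trans e⟩
  · rintro k ⟨k', -, rfl⟩
    exact mC.1 k'.2
  · intro g hg
    obtain ⟨n, k, hk, hgk⟩ := hdec ⟨g, mC.2 hg⟩
    exact ⟨k, ⟨k, hk, rfl⟩, n, congrArg Subtype.val hgk⟩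

end Cfsg.Agent.H816.CPAbs
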