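import Cfsg.Agent.H816.CPMain
import Cfsg.Agent.H89.SepCo2

/-!
# The centralizer of the element `p` of order 11 in the Baby Monster is `11 × S₅`: final form (helper816)
-/

set_option autoImplicit false

namespace Cfsg.Agent.H816.CPFin

open Subgroup
open Cfsg.Agent.BabyM Cfsg.Agent.BM.StageW

theorem norm_le (R : Subgroup Cfsg.Spor.Co2) (hR : Nat.card R = 11) :
    Nat.card (normalizer (R : Set Cfsg.Spor.Co2)) ≤ 110 :=
  Nat.le_of_dvd (by norm_num) (Cfsg.Agent.H89.SepCo2.nc11 hR).2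

/-- **`C_G(p) = ⟨p⟩ × S₅`.** -/
theorem cent_p : ∃ K : Subgroup Inst.M.G, Nonempty (K ≃* Equiv.Perm (Fin 5)) ∧
    (∀ k ∈ K, k * Wg [.p] = Wg [.p] * k) ∧
      ∀ g : Inst.M.G, g * Wg [.p] = Wg [.p] * g → ∃ k ∈ K, ∃ n : ℕ, g = Wg [.p] ^ n * k :=
  CPMain.cent_p_of norm_le (by rw [Instance.isB.2]; norm_num)

end Cfsg.Agent.H816.CPFin
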