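import Mathlib

/-!
# Elements of an extraspecial-like group commuting with an element of order 11 (helper816)

`Q` with a central involution `z` such that `Q/⟨z⟩` is commutative, `p` of order 11 normalizing `Q`: if
`(s p) ^ 11 ∈ D` for generators `s` of `Q` then the elements of `Q` commuting with `p` are in `D`.

`card_le` : the centralizer of an element of order 11 whose normalizer is of order at most 110 and induces ten
automorphisms.
-/

set_option autoImplicit false

namespace Cfsg.Agent.H816.CPNorm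

variable {G : Type*} [Group G]

/-- The data. -/
structure Hyp (Q D : Subgroup G) (S : Set G) (p z : G) : Prop where
  S_le : Q = Subgroup.closure S
  z_sq : z * z = 1
  z_D : z ∈ D
  z_comm : ∀ q ∈ Q, q * z = z * q
  pz : p * z = z * p
  comm : ∀ x ∈ Q, ∀ y ∈ Q, x * y = y * x ∨ x * y = y * x * z
  sq : ∀ x ∈ Q, x * x = 1 ∨ x * x = z
  norm : ∀ q ∈ Q, p * q * p⁻¹ ∈ Q
  p_pow : p ^ 11 = 1
  gen : ∀ s ∈ S, (s * p) ^ 11 ∈ D

variable {Q D : Subgroup G} {S : Set G} {p z : G}

/-- the partial norm -/
def nm (p q : G) : ℕ → G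
  | 0 => 1
  | n + 1 => nm p q n * (p ^ n * q * (p ^ n)⁻¹)

theorem mul_pow_eq (p q : G) (n : ℕ) : (q * p) ^ n = nm p q n * p ^ n := by
  induction n with
  | zero => simp [nm]
  | succ n ih =>
    rw [pow_succ, ih, nm, pow_succ]
    group

namespace Hyp

variable (h : Hyp Q D S p z)
include h

theorem conj_mem (n : ℕ) : ∀ q ∈ Q, p ^ n * q * (p ^ n)⁻¹ ∈ Q := by
  induction n with
  | zero => intro q hq; simpa using hq
  | succ n ih =>
    intro q hq
    have e : p ^ (n + 1) * q * (p ^ (n + 1))⁻¹ = p ^ n * (p * q * p⁻¹) * (p ^ n)⁻¹ := by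
      rw [pow_succ]; group
    rw [e]
    exact ih _ (h.norm q hq)

theorem nm_mem {q : G} (hq : q ∈ Q) (n : ℕ) : nm p q n ∈ Q := by
  induction n with
  | zero => exact one_mem _
  | succ n ih => exact mul_mem ih (h.conj_mem n q hq)

theorem nm_eq (q : G) : nm p q 11 = (q * p) ^ 11 := by rw [mul_pow_eq, h.p_pow, mul_one]

theorem nm_mul {a b : G} (ha : a ∈ Q) (hb : b ∈ Q) (n : ℕ) :
    nm p (a * b) n = nm p a n * nm p b n ∨ nm p (a * b) n = nm p a n * nm p b n * z := by
  induction n with
  | zero => left; simp [nm]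
  | succ n ih =>
    have e : p ^ n * (a * b) * (p ^ n)⁻¹ = (p ^ n * a * (p ^ n)⁻¹) * (p ^ n * b * (p ^ n)⁻¹) := by group
    have h1 := h.comm _ (h.nm_mem hb n) _ (h.conj_mem n a ha)
    have h2 := h.z_comm _ (h.conj_mem n a ha)
    have h3 := h.z_comm _ (h.conj_mem n b hb)
    have key : nm p a n * nm p b n * ((p ^ n * a * (p ^ n)⁻¹) * (p ^ n * b * (p ^ n)⁻¹)) =
        nm p a (n + 1) * nm p b (n + 1) ∨
        nm p a n * nm p b n * ((p ^ n * a * (p ^ n)⁻¹) * (p ^ n * b * (p ^ n)⁻¹)) =
        nm p a (n + 1) * nm p b (n + 1) * z := by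
      show _ = nm p a n * (p ^ n * a * (p ^ n)⁻¹) * (nm p b n * (p ^ n * b * (p ^ n)⁻¹)) ∨
        _ = nm p a n * (p ^ n * a * (p ^ n)⁻¹) * (nm p b n * (p ^ n * b * (p ^ n)⁻¹)) * z
      generalize nm p a n = A at *
      generalize nm p b n = B at *
      generalize p ^ n * a * (p ^ n)⁻¹ = a' at *
      generalize p ^ n * b * (p ^ n)⁻¹ = b' at *
      rcases h1 with h1 | h1
      · left
        calc A * B * (a' * b') = A * (B * a') * b' := by simp only [mul_assoc]
          _ = A * a' * (B * b') := by rw [h1]; simp only [mul_assoc]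
      · right
        calc A * B * (a' * b') = A * (B * a') * b' := by simp only [mul_assoc]
          _ = A * a' * B * (z * b') := by rw [h1]; simp only [mul_assoc]
          _ = A * a' * (B * b') * z := by rw [← h3]; simp only [mul_assoc]
    have hz' : z * (p ^ n * a * (p ^ n)⁻¹ * (p ^ n * b * (p ^ n)⁻¹)) =
        p ^ n * a * (p ^ n)⁻¹ * (p ^ n * b * (p ^ n)⁻¹) * z := by
      have h2' := h.z_comm _ (mul_mem (h.conj_mem n a ha) (h.conj_mem n b hb))
      exact h2'.symm
    rw [show nm p (a * b) (n + 1) = nm p (a * b) n * (p ^ n * (a * b) * (p ^ n)⁻¹) from rfl, e]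
    rcases ih with ih | ih
    · rw [ih]; exact key
    · rw [ih, mul_assoc _ z, hz', ← mul_assoc _ _ z]
      rcases key with k | k
      · right; rw [k]
      · left; rw [k, mul_assoc, h.z_sq, mul_one]

theorem mem_D_mul {a b c : G} (ha : a ∈ D) (hb : b ∈ D) (hc : c = a * b ∨ c = a * b * z) : c ∈ D := by
  rcases hc with rfl | rfl
  · exact mul_mem ha hb
  · exact mul_mem (mul_mem ha hb) h.z_D

/-- The norm of every element is in `D`. -/
theorem all_mem : ∀ q ∈ Q, nm p q 11 ∈ D := by
  intro q hq
  rw [h.S_le] at hq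
  induction hq using Subgroup.closure_induction with
  | mem x hx => rw [h.nm_eq]; exact h.gen x hx
  | one => rw [h.nm_eq, one_mul, h.p_pow]; exact one_mem _
  | mul a b ha hb iha ihb =>
    rw [← h.S_le] at ha hb
    exact h.mem_D_mul iha ihb (h.nm_mul ha hb 11)
  | inv a ha iha =>
    rw [← h.S_le] at ha
    have h1 := h.nm_mul ha (inv_mem ha) 11
    rw [mul_inv_cancel, h.nm_eq 1, one_mul, h.p_pow] at h1
    rcases h1 with h1 | h1
    · have : nm p a⁻¹ 11 = (nm p a 11)⁻¹ := (inv_eq_of_mul_eq_one_right h1.symm).symm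
      rw [this]; exact inv_mem iha
    · have h2 : nm p a⁻¹ 11 * z = (nm p a 11)⁻¹ :=
        (inv_eq_of_mul_eq_one_right (by rw [← mul_assoc]; exact h1.symm)).symm
      have h3 : nm p a⁻¹ 11 = (nm p a 11)⁻¹ * z := by
        rw [← h2, mul_assoc, h.z_sq, mul_one]
      rw [h3]
      exact mul_mem (inv_mem iha) h.z_D

/-- **The elements of `Q` commuting with `p` are in `D`.** -/
theorem mem_D {q : G} (hq : q ∈ Q) (hqp : q * p = p * q) : q ∈ D := by
  have h1 := h.all_mem q hq
  rw [h.nm_eq, (show Commute q p from hqp).mul_pow, h.p_pow, mul_one] at h1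
  have h4 : q ^ 4 = 1 := by
    rw [show 4 = 2 * 2 from rfl, pow_mul, pow_two q]
    rcases h.sq q hq with h2 | h2
    · rw [h2, one_pow]
    · rw [h2, pow_two, h.z_sq]
  have h5 : q = (q ^ 11)⁻¹ := by
    rw [eq_inv_iff_mul_eq_one, ← pow_succ', show 11 + 1 = 4 * 3 from rfl, pow_mul, h4, one_pow]
  rw [h5]
  exact inv_mem h1

end Hyp

section card

open Subgroup

/-- The centralizer of an element of order 11 whose normalizer has order at most 110 and induces ten automorphisms. -/
theorem cent_eq [Finite G] {x n : G} (hx : orderOf x = 11) (hN : Nat.card (normalizer (zpowers x : Set G)) ≤ 110)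
    (hn : n * x = x ^ 6 * n) : ∀ g : G, g * x = x * g → g ∈ zpowers x := by
  classical
  have hconj : ∀ i : ℕ, n ^ i * x * (n ^ i)⁻¹ = x ^ (6 ^ i) := by
    intro i
    induction i with
    | zero => simp
    | succ i ih =>
      have e : n ^ (i + 1) * x * (n ^ (i + 1))⁻¹ = n * (n ^ i * x * (n ^ i)⁻¹) * n⁻¹ := by
        rw [pow_succ']; group
      rw [e, ih]
      have h1 : n * x * n⁻¹ = x ^ 6 := by rw [hn, mul_inv_cancel_right]
      rw [show n * x ^ 6 ^ i * n⁻¹ = (n * x * n⁻¹) ^ 6 ^ i from (conj_pow).symm, h1, ← pow_mul]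
      congr 1
      rw [pow_succ, mul_comm]
  have hnN : n ∈ normalizer (zpowers x : Set G) := by
    have h1 : n * x * n⁻¹ ∈ zpowers x := by
      rw [hn, mul_inv_cancel_right]
      exact pow_mem (mem_zpowers _) 6
    have hle : (zpowers x).map (MulAut.conj n).toMonoidHom ≤ zpowers x := by
      rw [MonoidHom.map_zpowers, zpowers_le]
      exact h1
    have hcard : Nat.card ((zpowers x).map (MulAut.conj n).toMonoidHom) = Nat.card (zpowers x) :=
      card_map_of_injective (MulAut.conj n).injective
    have heq : (zpowers x).map (MulAut.conj n).toMonoidHom = zpowers x :=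
      eq_of_le_of_card_ge hle hcard.ge
    rw [mem_normalizer_iff]
    intro y
    constructor
    · intro hy
      rw [← heq]
      exact ⟨y, hy, rfl⟩
    · intro hy
      rw [← heq] at hy
      obtain ⟨w, hw, hwy⟩ := hy
      have : w = y := (MulAut.conj n).injective hwy
      rw [← this]
      exact hw
  set N := normalizer (zpowers x : Set G) with hNdef
  have hRN : zpowers x ≤ N := le_normalizer
  let H : Subgroup N := (centralizer ({x} : Set G)).subgroupOf N
  let n' : N := ⟨n, hnN⟩
  have hinj : Function.Injective fun i : Fin 10 => (QuotientGroup.mk (n' ^ i.1) : N ⧸ H) := by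
    have key : ∀ i j : ℕ, i < j → j < 10 → (QuotientGroup.mk (n' ^ i) : N ⧸ H) ≠ QuotientGroup.mk (n' ^ j) := by
      intro i j hij hj he
      rw [QuotientGroup.eq] at he
      have h1 : (n' ^ i)⁻¹ * n' ^ j = n' ^ (j - i) := by
        rw [inv_mul_eq_iff_eq_mul, ← pow_add]
        congr 1
        omega
      rw [h1, mem_subgroupOf] at he
      have h2 : n ^ (j - i) * x = x * n ^ (j - i) := mem_centralizer_singleton_iff.1 he
      have h3 := hconj (j - i)
      rw [h2, mul_inv_cancel_right] at h3
      have h4 : x ^ 1 = x ^ (6 ^ (j - i)) := by rw [pow_one]; exact h3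
      rw [pow_eq_pow_iff_modEq, hx] at h4
      have h5 : 0 < j - i := by omega
      have h6 : j - i < 10 := by omega
      generalize j - i = k at h4 h5 h6
      interval_cases k <;> exact absurd h4 (by decide)
    intro i j hij
    by_contra hne
    rcases lt_or_gt_of_ne (fun h => hne (Fin.ext h)) with h | h
    · exact key _ _ h j.2 hij
    · exact key _ _ h i.2 hij.symm
  have hidx : 10 ≤ H.index := by
    have h1 := Nat.card_le_card_of_injective _ hinj
    rw [Nat.card_eq_fintype_card, Fintype.card_fin] at h1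
    exact h1
  have hcH : Nat.card H ≤ 11 := by
    have h1 := card_mul_index H
    have h2 : Nat.card H * 10 ≤ 110 := le_trans (Nat.mul_le_mul_left _ hidx) (h1.le.trans hN)
    omega
  have hRle : (zpowers x).subgroupOf N ≤ H := by
    intro y hy
    rw [mem_subgroupOf] at hy ⊢
    obtain ⟨m, hm⟩ := mem_zpowers_iff.1 hy
    rw [← hm, mem_centralizer_singleton_iff]
    exact ((Commute.refl x).zpow_left m).eq
  have hRcard : Nat.card ((zpowers x).subgroupOf N) = 11 := by
    rw [Nat.card_congr (subgroupOfEquivOfLe hRN).toEquiv, Nat.card_zpowers, hx]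
  have hRH : (zpowers x).subgroupOf N = H := eq_of_le_of_card_ge hRle (by rw [hRcard]; exact hcH)
  intro g hg
  have hgN : g ∈ N := by
    have hc : g ∈ centralizer (zpowers x : Set G) := by
      rw [mem_centralizer_iff]
      intro y hy
      obtain ⟨m, rfl⟩ := mem_zpowers_iff.1 hy
      exact ((show Commute g x from hg).zpow_right m).eq.symm
    exact centralizer_le_normalizer _ hc
  have h1 : (⟨g, hgN⟩ : N) ∈ H := by
    rw [mem_subgroupOf, mem_centralizer_singleton_iff]
    exact hg
  rw [← hRH, mem_subgroupOf] at h1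
  exact h1

end card

end Cfsg.Agent.H816.CPNorm
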