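import Cfsg.Agent.H816.CPAbs
import Cfsg.Agent.H816.CPNorm
import Cfsg.Agent.H816.CPWords
import Cfsg.Agent.BabyM.Instance
import Cfsg.Agent.Schreier.CoTwoStab

/-!
# The centralizer of the element `p` of order 11 in the Baby Monster is `11 × S₅` (helper816)

In the concrete model. The bound for the normalizer of a subgroup of order 11 of `Co2` is a hypothesis here; see `CPFin`.
-/

set_option autoImplicit false

namespace Cfsg.Agent.H816.CPMain

open Subgroup
open Cfsg.Agent.BabyM Cfsg.Agent.BabyM.Conc Cfsg.Agent.BabyM.Model Cfsg.Agent.BM.StageW Cfsg.Agent.H816.CPWords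
open Cfsg.Agent.BabyM.Inst (M)

theorem eqw {v w : List Ltr} (h : chk v w = true) : Wg v = Wg w := eq_of_chk Instance.all Instance.ok h

/-! ### Elements -/

/-- element of order 11 -/
noncomputable def p : M.G := Wg [.p]

/-- involution -/
noncomputable def X : M.G := Wg [.X10]

/-- involution -/
noncomputable def Z : M.G := Wg [.Z10]

/-- the central involution of `C` -/
noncomputable def z : M.G := Wg [.z]

/-- triality -/
noncomputable def t : M.G := Wg [.tau]

/-- an involution -/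
noncomputable def T : M.G := Wg t15

theorem two (a b : Ltr) : Wg [a, b] = Wg [b] * Wg [a] := Wg_append [a] [b]

theorem cons (a : Ltr) (v : List Ltr) : Wg (a :: v) = Wg v * Wg [a] := Wg_append [a] v

theorem t_p : t * p = p * t := by
  have h := eqw tau_p
  rw [two, two] at h
  exact h.symm

theorem X_p' : X * p = p * X := by
  have h := eqw X_p
  rw [two, two] at h
  exact h.symm

theorem Z_p' : Z * p = p * Z := by
  have h := eqw Z_p
  rw [two, two] at h
  exact h.symm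

theorem T_p : T * p = p * T := by
  have h := eqw t15_p
  rw [Wg_append, cons .p t15] at h
  exact h.symm

theorem p_pow : p ^ 11 = 1 := by
  have h := eqw p_eleven
  simp only [cons _ (_ :: _), Wg_nil] at h
  refine Eq.trans ?_ h
  rw [show Wg [.p] = p from rfl]
  simp only [pow_succ, pow_zero, one_mul]

theorem p_ne' : p ≠ 1 := by
  have h := ne_of_neAt lns_ok p_ne
  rwa [Wg_nil] at h

theorem order_p : orderOf p = 11 := by
  have : Fact (Nat.Prime 11) := ⟨by norm_num⟩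
  exact orderOf_eq_prime p_pow p_ne'

theorem r_r : (X * Z) * (X * Z) = z := by
  have h := eqw r_sq
  rw [cons, cons, two] at h
  rw [← mul_assoc]
  exact h

theorem X_X : X * X = 1 := by
  have h := eqw X_sq
  rwa [two, Wg_nil] at h

theorem Z_Z : Z * Z = 1 := by
  have h := eqw Z_sq
  rwa [two, Wg_nil] at h

theorem z_z : z * z = 1 := by
  have h := eqw z_sq
  rwa [two, Wg_nil] at h

theorem z_ne' : z ≠ 1 := by
  have h := ne_of_neAt lns_ok z_ne
  rwa [Wg_nil] at h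

theorem X_ne' : X ≠ 1 := by
  have h := ne_of_neAt lns_ok X_ne
  rwa [Wg_nil] at h

theorem Z_ne_z' : Z ≠ z := ne_of_neAt lns_ok Z_ne_z

theorem t_pow : t ^ 3 = 1 := by
  have h := eqw tau_three
  rw [cons, two, Wg_nil] at h
  rw [pow_succ, pow_two]
  exact h

theorem t_z : t * z = Z * t := by
  have h := eqw tau_z
  rwa [two, two] at h

theorem z_p : z * p = p * z := by
  have h1 : (X * Z) * p = p * (X * Z) := by rw [mul_assoc, Z_p', ← mul_assoc, X_p', mul_assoc]
  rw [← r_r, mul_assoc, h1, ← mul_assoc, h1, mul_assoc]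

/-! ### The hypotheses -/

theorem r_sq_eq : (X * Z) ^ 2 = z := by rw [pow_two, r_r]

theorem order_r : orderOf (X * Z) = 4 := by
  have : Fact (Nat.Prime 2) := ⟨Nat.prime_two⟩
  have h := orderOf_eq_prime_pow (p := 2) (n := 1) (x := X * Z) (by rw [pow_one, r_sq_eq]; exact z_ne')
    (by rw [show 2 ^ (1 + 1) = 2 * 2 from rfl, pow_mul, r_sq_eq, pow_two, z_z])
  exact h

theorem s_r_s : X * (X * Z) * X = (X * Z)⁻¹ := by
  rw [← mul_assoc, X_X, one_mul, mul_inv_rev, ← eq_inv_of_mul_eq_one_left X_X, ← eq_inv_of_mul_eq_one_left Z_Z]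

theorem s_notMem : X ∉ zpowers (X * Z) := by
  intro h
  obtain ⟨k, hk⟩ := mem_zpowers_iff.1 h
  have h1 : X * (X * Z) = (X * Z) * X := by
    have h2 : Commute ((X * Z) ^ k) (X * Z) := (Commute.refl (X * Z)).zpow_left k
    rw [hk] at h2
    exact h2
  have h2 : Z = X * Z * X := by rw [← h1, ← mul_assoc, X_X, one_mul]
  apply z_ne'
  rw [← r_r, ← mul_assoc, ← h2, Z_Z]

theorem t_z_t : t * z * t⁻¹ = Z := by rw [t_z, mul_inv_cancel_right]

theorem X_mem : X ∈ closure ({X * Z, X} : Set M.G) := subset_closure (Or.inr rfl)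

theorem r_mem : X * Z ∈ closure ({X * Z, X} : Set M.G) := subset_closure (Or.inl rfl)

theorem Z_mem : Z ∈ closure ({X * Z, X} : Set M.G) := by
  have h1 := mul_mem X_mem r_mem
  rwa [← mul_assoc, X_X, one_mul] at h1

theorem z_mem : z ∈ closure ({X * Z, X} : Set M.G) := by
  rw [← r_r]
  exact mul_mem (subset_closure (Or.inl rfl)) (subset_closure (Or.inl rfl))

theorem v_cube' : (T * z) ^ 3 = X := by
  have h := eqw v_cube
  simp only [Wg_append] at h
  rw [← show Wg [.X10] = X from rfl, ← h, pow_succ, pow_two]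
  show T * z * (T * z) * (T * z) = T * (z * (T * (z * (T * z))))
  simp only [mul_assoc]

theorem v_sq_ne' : (T * z) ^ 2 ≠ 1 := by
  have h := ne_of_neAt lns_ok v_sq_ne
  simp only [Wg_append, Wg_nil] at h
  intro h1
  apply h
  rw [← h1, pow_two]
  show T * (z * (T * z)) = T * z * (T * z)
  simp only [mul_assoc]

theorem order_v : orderOf (T * z) = 6 := by
  have h6 : (T * z) ^ 6 = 1 := by
    rw [show 6 = 3 * 2 from rfl, pow_mul, v_cube', pow_two, X_X]
  have h1 := orderOf_dvd_of_pow_eq_one h6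
  have h2 : ¬ orderOf (T * z) ∣ 2 := fun h => v_sq_ne' (orderOf_dvd_iff_pow_eq_one.1 h)
  have h3 : ¬ orderOf (T * z) ∣ 3 := fun h => X_ne' (by rw [← v_cube']; exact orderOf_dvd_iff_pow_eq_one.1 h)
  have h4 : orderOf (T * z) ≤ 6 := Nat.le_of_dvd (by norm_num) h1
  generalize orderOf (T * z) = k at h1 h2 h3 h4
  interval_cases k <;> simp_all

theorem order_w : orderOf (Wg w5) = 5 := by
  have : Fact (Nat.Prime 5) := ⟨by norm_num⟩
  refine orderOf_eq_prime ?_ ?_
  · have h := eqw w5_five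
    simp only [Wg_append, Wg_nil] at h
    rw [← h]
    simp only [pow_succ, pow_zero, one_mul, mul_assoc]
  · have h := ne_of_neAt lns_ok w5_ne
    rwa [Wg_nil] at h

theorem w_eq : Wg w5 = T * (X * Z) := by
  show Wg ([.Z10, .X10] ++ t15) = _
  rw [Wg_append, two]
  rfl

/-! ### The elements of `Q` commuting with `p` -/

/-- the dihedral group in the ambient group -/
noncomputable def D : Subgroup (V ≃ₗ[ℚ] V) := (closure ({X * Z, X} : Set M.G)).map M.G.subtype

theorem mem_D_of {g : M.G} (h : g ∈ closure ({X * Z, X} : Set M.G)) : (g : V ≃ₗ[ℚ] V) ∈ D := ⟨g, h, rfl⟩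

theorem Wg_coe (v : List Ltr) : ((Wg v : M.G) : V ≃ₗ[ℚ] V) = W v := rfl

theorem inD_mem {v : List Ltr} (h : inD v = true) : W v ∈ D := by
  rw [← Wg_coe]
  apply mem_D_of
  simp only [inD, Bool.or_eq_true] at h
  rcases h with ((((((h | h) | h) | h) | h) | h) | h) | h
  · rw [eqw h, Wg_nil]; exact one_mem _
  · rw [eqw h]; exact z_mem
  · rw [eqw h]; exact X_mem
  · rw [eqw h, two]; exact mul_mem z_mem X_mem
  · rw [eqw h]; exact Z_mem
  · rw [eqw h, two]; exact mul_mem z_mem Z_mem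
  · rw [eqw h, two]; exact mul_mem Z_mem X_mem
  · rw [eqw h, two]; exact mul_mem X_mem Z_mem

theorem pw_eq (l : Ltr) : W (pw l) = (E l * W [.p]) ^ 11 := by
  unfold pw
  simp only [W_cons _ (_ :: _), W_single, pow_succ, pow_zero, one_mul, mul_assoc]

theorem n_all : ∀ l : Ltr, l.isQ = true → inD (pw l) = true
  | .X0, _ => n_X0
  | .X1, _ => n_X1
  | .X2, _ => n_X2
  | .X3, _ => n_X3
  | .X4, _ => n_X4
  | .X5, _ => n_X5
  | .X6, _ => n_X6
  | .X7, _ => n_X7
  | .X8, _ => n_X8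
  | .X9, _ => n_X9
  | .X10, _ => n_X10
  | .Z0, _ => n_Z0
  | .Z1, _ => n_Z1
  | .Z2, _ => n_Z2
  | .Z3, _ => n_Z3
  | .Z4, _ => n_Z4
  | .Z5, _ => n_Z5
  | .Z6, _ => n_Z6
  | .Z7, _ => n_Z7
  | .Z8, _ => n_Z8
  | .Z9, _ => n_Z9
  | .Z10, _ => n_Z10

theorem hyp : CPNorm.Hyp Q D {g | ∃ l : Ltr, l.isQ = true ∧ g = E l} (W [.p]) (W [.z]) where
  S_le := rfl
  z_sq := congrArg Subtype.val z_z
  z_D := mem_D_of z_mem
  z_comm q hq := Instance.all.grp.z_comm q (Instance.all.grp.Q_le hq)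
  pz := (congrArg Subtype.val z_p).symm
  comm := Instance.all.grp.Q_comm
  sq := Instance.all.grp.Q_sq
  norm q hq := Instance.all.grp.Q_normal _ (E_mem_C (l := .p) rfl) q hq
  p_pow := by
    have h := congrArg Subtype.val p_pow
    rw [SubgroupClass.coe_pow] at h
    exact h
  gen s hs := by
    obtain ⟨l, hl, rfl⟩ := hs
    rw [← pw_eq]
    exact inD_mem (n_all l hl)

/-! ### The centralizer of `⟨z, p⟩` -/

/-- `p` in `C` -/
noncomputable def pC : M.C := ⟨W [.p], E_mem_C (l := .p) rfl⟩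

/-- the element of `C` inducing an automorphism of order ten of `⟨p⟩` modulo `Q` -/
noncomputable def nC : M.C := ⟨W nw, ConcGrp.W_mem_C (v := nw) rfl⟩

theorem pC_pow : pC ^ 11 = 1 := by
  apply Subtype.ext
  rw [SubgroupClass.coe_pow]
  exact hyp.p_pow

theorem nC_pC : nC * pC = pC ^ 6 * nC := by
  have h := eqw nw_p
  rw [cons .p nw, Wg_append, show Wg [.p, .p, .p, .p, .p, .p] = p ^ 6 by
    simp only [cons _ (_ :: _), pow_succ, pow_zero, one_mul]; rfl] at h
  have h1 := congrArg Subtype.val h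
  apply Subtype.ext
  rw [Subgroup.coe_mul, Subgroup.coe_mul, SubgroupClass.coe_pow] at h1 ⊢
  exact h1

theorem pC_notMem : (pC : V ≃ₗ[ℚ] V) ∉ M.Q := by
  intro h
  have : Fact (Nat.Prime 11) := ⟨by norm_num⟩
  have h1 : orderOf (⟨pC, h⟩ : M.Q) = 11 := by
    refine orderOf_eq_prime (Subtype.ext ?_) ?_
    · rw [SubgroupClass.coe_pow]
      exact hyp.p_pow
    · intro h2
      apply p_ne'
      have h3 : (pC : V ≃ₗ[ℚ] V) = 1 := congrArg Subtype.val h2
      exact Subtype.ext h3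
  have h2 : orderOf (⟨pC, h⟩ : M.Q) ∣ Nat.card M.Q := orderOf_dvd_natCard _
  rw [h1, Instance.all.grp.Q_card] at h2
  have h3 := (by norm_num : Nat.Prime 11).dvd_of_dvd_pow h2
  norm_num at h3

theorem cent_zp (hN : ∀ R : Subgroup Cfsg.Spor.Co2, Nat.card R = 11 →
      Nat.card (normalizer (R : Set Cfsg.Spor.Co2)) ≤ 110)
    (g : M.G) (hg : g * p = p * g) (hz : g * z = z * g) :
    ∃ n : ℕ, ∃ f ∈ closure ({X * Z, X} : Set M.G), g = p ^ n * f := by
  have A := Instance.all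
  have hgC : (g : V ≃ₗ[ℚ] V) ∈ M.C := A.cent_z g g.2 (congrArg Subtype.val hz)
  have hgp : (g : V ≃ₗ[ℚ] V) * W [.p] = W [.p] * g := congrArg Subtype.val hg
  obtain ⟨π, hπs, hπ⟩ := A.grp.quot
  obtain ⟨e⟩ := Cfsg.Agent.Schreier.CoTwoStab.exists_equiv _ GroupInst.dt_l₀
  have hfin : Finite Cfsg.Spor.Co2 := Nat.finite_of_card_ne_zero (by
    rw [Cfsg.Agent.Schreier.CoTwoStab.card]; norm_num)
  let φ : M.C →* Cfsg.Spor.Co2 := e.toMonoidHom.comp π
  have hφ : ∀ g : M.C, φ g = 1 ↔ (g : V ≃ₗ[ℚ] V) ∈ M.Q := fun g => by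
    rw [← hπ]; exact map_eq_one_iff e e.injective
  have : Fact (Nat.Prime 11) := ⟨by norm_num⟩
  have hx : orderOf (φ pC) = 11 := by
    refine orderOf_eq_prime ?_ ?_
    · rw [← map_pow, pC_pow, map_one]
    · intro h; exact pC_notMem ((hφ _).1 h)
  have hn : φ nC * φ pC = φ pC ^ 6 * φ nC := by rw [← map_mul, nC_pC, map_mul, map_pow]
  have hc := CPNorm.cent_eq hx (hN _ (by rw [Nat.card_zpowers, hx])) hn (φ ⟨g, hgC⟩) (by
    rw [← map_mul, ← map_mul]
    exact congrArg φ (Subtype.ext hgp))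
  obtain ⟨n, hn'⟩ := (mem_powers_iff_mem_zpowers.2 hc : φ ⟨g, hgC⟩ ∈ Submonoid.powers (φ pC))
  have hn' : φ pC ^ n = φ ⟨g, hgC⟩ := hn'
  have hq : ((W [.p] ^ n)⁻¹ * (g : V ≃ₗ[ℚ] V)) ∈ Q := by
    have h1 : φ ((pC ^ n)⁻¹ * ⟨g, hgC⟩) = 1 := by
      rw [map_mul, map_inv, map_pow, hn', inv_mul_cancel]
    exact (hφ _).1 h1
  have hqp : ((W [.p] ^ n)⁻¹ * (g : V ≃ₗ[ℚ] V)) * W [.p] = W [.p] * ((W [.p] ^ n)⁻¹ * (g : V ≃ₗ[ℚ] V)) :=
    ((((Commute.refl (W [.p])).pow_left n).inv_left).mul_left hgp).eq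
  obtain ⟨f, hf, hfq⟩ := hyp.mem_D hq hqp
  refine ⟨n, f, hf, Subtype.ext ?_⟩
  have hfq' : (f : V ≃ₗ[ℚ] V) = (W [.p] ^ n)⁻¹ * (g : V ≃ₗ[ℚ] V) := hfq
  rw [Subgroup.coe_mul, SubgroupClass.coe_pow, hfq']
  exact (mul_inv_cancel_left _ _).symm

/-- `C_G(p) = ⟨p⟩ × S₅`. -/
theorem cent_p_of (hN : ∀ R : Subgroup Cfsg.Spor.Co2, Nat.card R = 11 →
      Nat.card (normalizer (R : Set Cfsg.Spor.Co2)) ≤ 110) (h11 : ¬ 121 ∣ Nat.card M.G) :
    ∃ K : Subgroup M.G, Nonempty (K ≃* Equiv.Perm (Fin 5)) ∧ (∀ k ∈ K, k * Wg [.p] = Wg [.p] * k) ∧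
      ∀ g : M.G, g * Wg [.p] = Wg [.p] * g → ∃ k ∈ K, ∃ n : ℕ, g = Wg [.p] ^ n * k := by
  have : Finite M.G := Instance.all.finite_G
  have hXZ : (X * Z) * p = p * (X * Z) := (Commute.mul_left X_p' Z_p' : Commute (X * Z) p).eq
  have hTz : (T * z) * p = p * (T * z) := (Commute.mul_left T_p z_p : Commute (T * z) p).eq
  have hw : Wg w5 * p = p * Wg w5 := by
    rw [w_eq]
    exact (Commute.mul_left T_p hXZ : Commute (T * (X * Z)) p).eq
  exact CPAbs.main (p := p) (z := z) (r := X * Z) (s := X) (t := t) (v := T * z) (w := Wg w5) order_p h11 order_r X_X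
    s_r_s s_notMem r_sq_eq.symm hXZ X_p' (cent_zp hN) t_pow t_p (by rw [t_z_t]; exact Z_mem)
    (by rw [t_z_t]; exact Z_ne_z') order_v hTz order_w hw

end Cfsg.Agent.H816.CPMain
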