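import Cfsg.Agent.H816.Shape
import Cfsg.Agent.H816.RedMain
import Cfsg.Agent.H816.Elim
import Cfsg.Agent.H816.Fin24
import Cfsg.Agent.H816.TwoOrd
import Cfsg.Agent.FixBN.LOAll
import Cfsg.Agent.SporadicStructure.PsuMatch

/-!
# S3234: assembly
-/

set_option autoImplicit false

namespace Cfsg.Agent.H816.Fin34

open scoped commutatorElement
open Subgroup Cfsg Cfsg.Agent.Co2Type.Quad Cfsg.Agent.OrdDiv Cfsg.Agent.SporadicStructure.FieldNine
open Cfsg.Agent.H316.Red (Ce Jz mem_Jz large_E card_Jz card_centralizer_eq pow_eq_of_mul_odd card_mul_relIndex')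
open Cfsg.Agent.H816.Red (SetupW)
open Cfsg.Agent.H816.TwoOrd Cfsg.Agent.H816.Elim Cfsg.Agent.H816.Fin24

universe u

theorem filter_list : ((list2 23).filter fun g =>
    (fun n => (n % 2 ^ 20 == 0 && n % 76545 == 0 && n % 2 ^ 24 != 0)) (ordN g)) =
    [.alt 24, .alt 25, .alt 26, .alt 27, .psu 7 2, .co1, .fi24] := by decide +kernel

/-- `Large` passes to a subgroup containing `Q` -/
theorem large_subgroupOf {G : Type u} [Group G] {Q : Subgroup G} {z : G} (h : Large Q z) (M : Subgroup G)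
    (hQM : Q ≤ M) : Large (Q.subgroupOf M) (⟨z, hQM h.z_mem⟩ : M) where
  z_mem := h.z_mem
  z_ne := fun h1 => h.z_ne (congrArg Subtype.val h1)
  z_sq := Subtype.ext h.z_sq
  comm_z := fun x hx => Subtype.ext (h.comm_z x hx)
  conj_mem := fun g hg x hx => h.conj_mem g (congrArg Subtype.val hg) x hx
  sq := fun x hx => (h.sq x hx).imp (fun h1 => Subtype.ext h1) (fun h1 => Subtype.ext h1)
  comm := fun x hx y hy => (h.comm x hx y hy).imp (fun h1 => Subtype.ext h1) (fun h1 => Subtype.ext h1)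
  cent := fun x hx h1 => (h.cent x hx fun y hy =>
    congrArg Subtype.val (h1 ⟨y, hQM hy⟩ hy)).imp (fun h1 => Subtype.ext h1) (fun h1 => Subtype.ext h1)
  self := fun g hg h1 => h.self g (congrArg Subtype.val hg) fun x hx => congrArg Subtype.val (h1 ⟨x, hQM hx⟩ hx)

variable {G : Type u} [Group G] [Finite G] {z : G}

theorem pCore_eq_bot {J X : Subgroup G} (h : SetupW z J X) (hz : Ce z ≠ ⊤)
    (hcen : ∀ x ∈ J, (∀ y ∈ J, x * y = y * x) → x = 1 ∨ x = z) : pCore 2 G = ⊥ := by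
  obtain ⟨h1, h2⟩ := h.twoCore hz
  have hn : (pCore 2 G).Normal := by
    have := Cfsg.Agent.Lib.Cores.pCore_characteristic (G := G) 2
    infer_instance
  have hcomm : ∀ g : G, ∀ x ∈ pCore 2 G, g * x = x * g := by
    intro g x hx
    exact Cfsg.Agent.H316.Red.commute_of_card_le_two h1 (fun y hy => hn.conj_mem y hy g) hx
  rw [eq_bot_iff_forall]
  intro x hx
  have hxC : x ∈ Ce z := by
    rw [mem_centralizer_singleton_iff]
    exact (hcomm z x hx).symm
  have hxJ : x ∈ J := by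
    refine h.J_cent (mem_inf.2 ⟨hxC, ?_⟩)
    rw [mem_centralizer_iff]
    intro j _
    exact hcomm j x hx
  rcases hcen x hxJ (fun y _ => (hcomm y x hx).symm) with h3 | h3
  · exact h3
  · rw [h3] at hx; exact absurd hx h2

theorem not_dvd_aux {p m k : ℕ} (hp : Nat.Coprime p 2) (hm : ¬ p ∣ m) : ¬ p ∣ 2 ^ k * m := fun h =>
  hm ((Nat.Coprime.pow_right k hp).dvd_of_dvd_mul_left h)

/-- **identification of the simple group** -/
theorem isoFi24' (T : OrderTable.{u}) (hA : ∀ (S : Type u) [Group S] [Finite S] [IsSimpleGroup S], IsKnownSimple' S)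
    {J X : Subgroup G} (h : SetupW z J X) (hL : Large J z) (hJX : J ≤ X) {M : Subgroup G} (hzM : z ∈ M)
    (hsimp : IsSimpleGroup M) (hXM : X ≤ M) {k : ℕ} (hk1 : 20 ≤ k) (hk2 : k ≤ 23)
    (hT : Nat.card (M ⊓ Ce z : Subgroup G) = 2 ^ k * 76545) (ho : ∃ o, Odd o ∧ Nat.card M = 2 ^ k * o)
    (hlo : ¬ Cfsg.Agent.FixBN.LOAut M) : Spor.IsoFi24' M ∧ k = 21 := by
  obtain ⟨o, ho, hMo⟩ := ho
  have hcz := card_centralizer_eq hzM
  rw [hT] at hcz
  have hdvd : 2 ^ k * 76545 ∣ Nat.card M := by rw [← hT]; exact card_dvd_of_le inf_le_left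
  have hna : ¬ ∀ a b : M, a * b = b * a := by
    intro hab
    apply h.inf_not_abelian
    intro x hx y hy
    exact congrArg Subtype.val (hab ⟨x, hXM hx.1⟩ ⟨y, hXM hy.1⟩)
  have h24 : ¬ 2 ^ (23 + 1) ∣ Nat.card M := by
    intro h1
    rw [hMo] at h1
    have h2 : 2 ^ 24 ∣ 2 ^ k := (Nat.Coprime.pow_left 24 (Nat.coprime_two_left.2 ho)).dvd_of_dvd_mul_right h1
    have h3 := (Nat.pow_dvd_pow_iff_le_right (by norm_num)).1 h2
    omega
  have hP : (fun n : ℕ => (n % 2 ^ 20 == 0 && n % 76545 == 0 && n % 2 ^ 24 != 0)) (Nat.card M) = true := by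
    have e1 : 2 ^ 20 ∣ Nat.card M := ((pow_dvd_pow 2 hk1).trans (Dvd.intro _ rfl)).trans hdvd
    have e2 : 76545 ∣ Nat.card M := (Dvd.intro_left _ rfl).trans hdvd
    have e3 : Nat.card M % 2 ^ 24 ≠ 0 := fun h1 => h24 (Nat.dvd_of_mod_eq_zero h1)
    simp only [Bool.and_eq_true, beq_iff_eq, bne_iff_ne, ne_eq]
    exact ⟨⟨Nat.mod_eq_zero_of_dvd e1, Nat.mod_eq_zero_of_dvd e2⟩, e3⟩
  have hLM := large_subgroupOf hL M (hJX.trans hXM)
  have hz2 : orderOf (⟨z, hzM⟩ : M) = 2 := by rw [Subgroup.orderOf_mk]; exact h.hz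
  rcases exists_two_filter T (hA M) hna h24
    (fun n : ℕ => (n % 2 ^ 20 == 0 && n % 76545 == 0 && n % 2 ^ 24 != 0)) hP with ⟨p, -, hp2, hp⟩ | ⟨g, hg, hr, hc⟩
  · exact absurd (Cfsg.Agent.FixBN.loAut_of_isLieTypeChar hp2 hp) hlo
  rw [filter_list] at hg
  have halt : ∀ n ∈ [24, 25, 26, 27], ¬ Nonempty (M ≃* alternatingGroup (Fin n)) := by
    rintro n hn ⟨e⟩
    have h1 := alt_cent hn (e ⟨z, hzM⟩) (by
      rw [← hz2]; exact orderOf_injective e.toMonoidHom e.injective _)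
    rw [card_cent_equiv e, hcz] at h1
    exact not_dvd_aux (by norm_num) (by norm_num) h1
  simp only [List.mem_cons, List.not_mem_nil, or_false] at hg
  rcases hg with rfl | rfl | rfl | rfl | rfl | rfl | rfl
  · exact absurd hr (halt 24 (by simp))
  · exact absurd hr (halt 25 (by simp))
  · exact absurd hr (halt 26 (by simp))
  · exact absurd hr (halt 27 (by simp))
  · exfalso
    obtain ⟨F, _, _, hF, ⟨e⟩⟩ := hr
    obtain ⟨v, hv, ⟨P, hP⟩, h11⟩ := psu7_cent hF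
    rw [card_cent_of_large hLM e hv P hP] at h11
    have e1 : Nat.card (centralizer ({(⟨z, hJX.trans hXM hLM.z_mem⟩ : M)} : Set M)) = 2 ^ k * 76545 := hcz
    rw [e1] at h11
    exact not_dvd_aux (by norm_num) (by norm_num) h11
  · exfalso
    obtain ⟨e⟩ := hr
    obtain ⟨v, hv, ⟨P, hP⟩, h11⟩ := co1_cent
    rw [card_cent_of_large hLM e hv P hP] at h11
    have e1 : Nat.card (centralizer ({(⟨z, hJX.trans hXM hLM.z_mem⟩ : M)} : Set M)) = 2 ^ k * 76545 := hcz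
    rw [e1] at h11
    exact not_dvd_aux (by norm_num) (by norm_num) h11
  · refine ⟨hr, ?_⟩
    have e1 : ordN .fi24 = 2 ^ 21 * 598528723330813275 := by decide +kernel
    rw [hc, e1] at hMo
    exact (pow_eq_of_mul_odd (by decide +kernel) ho hMo).symm

/-- the quotient `C(z) / K` is a four-group -/
theorem four_group {M : Subgroup G} [hMn : M.Normal] (h2 : M.index = 2) (htop : Ce z ⊔ M = ⊤)
    (K : Subgroup (Ce z)) [hK : K.Normal] (hK4 : K.index = 4) (hKM : K.map (Ce z).subtype ≤ M)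
    {d : G} (hd : d * d = 1) (hdM : d ∉ M) (hdz : d * z = z * d) : ∀ x : Ce z ⧸ K, x ^ 2 = 1 := by
  have hdC : d ∈ Ce z := mem_centralizer_singleton_iff.2 hdz
  have hKT : K ≤ M.subgroupOf (Ce z) := fun x hx => hKM ⟨x, hx, rfl⟩
  have hcom : ((M.subgroupOf (Ce z)).map (QuotientGroup.mk' K)).comap (QuotientGroup.mk' K) =
      M.subgroupOf (Ce z) := by
    rw [comap_map_eq, QuotientGroup.ker_mk', sup_eq_left]
    exact hKT
  refine klein (by rw [← index_eq_card, hK4]) ((M.subgroupOf (Ce z)).map (QuotientGroup.mk' K)) ?_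
    (QuotientGroup.mk' K ⟨d, hdC⟩) ?_ ?_
  · rw [← index_comap_of_surjective _ (QuotientGroup.mk'_surjective K), hcom]
    have e1 : M.index = M.relIndex (Ce z) := by
      rw [← relIndex_top_right, ← htop, relIndex_sup_right]
    rw [← h2, e1]; rfl
  · rw [← map_mul]
    have : (⟨d, hdC⟩ * ⟨d, hdC⟩ : Ce z) = 1 := Subtype.ext hd
    rw [this, map_one]
  · intro h1
    have h3 : (⟨d, hdC⟩ : Ce z) ∈ ((M.subgroupOf (Ce z)).map (QuotientGroup.mk' K)).comap (QuotientGroup.mk' K) := h1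
    rw [hcom] at h3
    exact hdM h3

/-- **S3234** -/
theorem main (T : OrderTable.{u}) (hA : ∀ (S : Type u) [Group S] [Finite S] [IsSimpleGroup S], IsKnownSimple' S)
    (hz : orderOf z = 2) {L : Type*} [Field L] [Fintype L] (hL9 : Fintype.card L = 9)
    (hJ : IsExtraspecial 2 (pCore 2 (Ce z))) (hJc : Nat.card (pCore 2 (Ce z)) = 2 ^ 13)
    (hCJ : centralizer (pCore 2 (Ce z) : Set (Ce z)) ≤ pCore 2 (Ce z))
    (M K : Subgroup (Ce z)) [hMn : M.Normal] [hKn : K.Normal] (hJM : pCore 2 (Ce z) ≤ M) (hMK : M ≤ K)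
    (hM3 : Nat.card M = 3 * Nat.card (pCore 2 (Ce z))) (e : (K ⧸ M.subgroupOf K) ≃* PSU 4 L 3) :
    Ce z ⊔ oddCore G = ⊤ ∨ (K.index = 2 ∧ Spor.IsoFi24' G) ∨
      (K.index = 4 ∧ (∀ x : Ce z ⧸ K, x ^ 2 = 1) ∧ Nonempty (G ≃* Spor.Fi24)) := by
  obtain ⟨ε⟩ := Cfsg.Agent.SporadicStructure.PsuMatch.psu_iso_of_card (F := L) (K := K9)
    (by rw [hL9, K9.card_K9']; norm_num) 4 3
  obtain ⟨h, hX, hidx, -⟩ := Cfsg.Agent.H816.Shape.setup hz hJ hJc hCJ M K hJM hMK hM3 (e.trans ε)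
  have hLg : Large (Jz z) z := large_E hz hJ hCJ
  by_cases hne : Ce z ⊔ oddCore G = ⊤
  · exact Or.inl hne
  right
  have hO : oddCore G = ⊥ := h.oddCore_eq_bot.resolve_left hne
  have hzt : Ce z ≠ ⊤ := fun h1 => hne (by rw [h1, top_sup_eq])
  have hcen : ∀ x ∈ Jz z, (∀ y ∈ Jz z, x * y = y * x) → x = 1 ∨ x = z := fun x hx h1 => hLg.cent x hx h1
  have h2 := pCore_eq_bot h hzt hcen
  obtain ⟨j, hj, hKj⟩ := (Nat.dvd_prime_pow (m := 3) Nat.prime_two).1 (by simpa using hidx)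
  have hH : Nat.card (Ce z) = 2 ^ (20 + j) * 76545 := by
    have e1 := K.card_mul_index
    rw [hKj, ← card_map_of_injective (Ce z).subtype_injective, hX] at e1
    rw [← e1, pow_add]; ring
  obtain ⟨M₀, hzM, hM₀, hsimp, hXM, hcent, htop, k, hk1, hk2, hMi, hT, ho, hlo⟩ :=
    h.main (n := 20) (m := 76545) (a := 20 + j) (by decide) (by rw [hX]) hH hO h2 hzt
  have hJX : Jz z ≤ K.map (Ce z).subtype := map_mono (hJM.trans hMK)
  obtain ⟨⟨e0⟩, rfl⟩ := isoFi24' T hA h hLg hJX hzM hsimp hXM hk1 (by omega) hT ho hlo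
  have hi2 := index_dvd_two M₀ hcent e0
  rw [hMi] at hi2
  have hj1 : j = 1 ∨ j = 2 := by
    have h3 : 20 + j - 21 ≤ 1 := by
      have h4 : 2 ^ (20 + j - 21) ∣ 2 ^ 1 := by simpa using hi2
      exact (Nat.pow_dvd_pow_iff_le_right (by norm_num)).1 h4
    omega
  rcases hj1 with rfl | rfl
  · left
    refine ⟨by rw [hKj]; norm_num, ?_⟩
    have h3 : M₀ = ⊤ := by
      rw [← index_eq_one, hMi]; norm_num
    exact ⟨(topEquiv.symm.trans (MulEquiv.subgroupCongr h3.symm)).trans e0⟩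
  · right
    have h3 : M₀.index = 2 := by rw [hMi]; norm_num
    obtain ⟨φ⟩ := iso_of_index_two M₀ hcent h3 e0
    obtain ⟨d, hd, hdM, hdz⟩ := exists_outer φ M₀ h3 h.zz h.z_ne
    refine ⟨by rw [hKj]; norm_num, ?_, ⟨φ⟩⟩
    exact four_group h3 htop K (by rw [hKj]; norm_num) hXM hd hdM hdz

end Cfsg.Agent.H816.Fin34
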