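import Cfsg.Agent.H816.MTab

/-!
# Kernel checks: certificates of the transitivity on pairs of axes, part 2 (helper816)
-/

set_option autoImplicit false
set_option maxRecDepth 100000
set_option Elab.async false

namespace Cfsg.Agent.H816.MCer2

open Cfsg.Agent.H816.MTab

theorem c0 : cer (9, 0, false) [39, 40] (4, 1, false) = true := by decide +kernel

theorem c1 : cer (3, 5, false) [36, 39, 42, 41] (4, 1, false) = true := by decide +kernel

theorem c2 : cer (4, 0, true) [36, 39, 42, 41] (4, 1, false) = true := by decide +kernel

theorem c3 : cer (4, 3, true) [36, 39, 42, 40] (4, 1, false) = true := by decide +kernel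

theorem c4 : cer (11, 0, true) [25, 39, 42, 42, 25, 41, 39, 40] (8, 10, false) = true := by decide +kernel

theorem c5 : cer (4, 0, false) [25, 39, 42, 42, 25, 41, 39, 41] (4, 1, false) = true := by decide +kernel

theorem c6 : cer (10, 1, false) [39, 41] (4, 1, true) = true := by decide +kernel

theorem c7 : cer (6, 10, false) [39, 40] (10, 1, false) = true := by decide +kernel

theorem c8 : cer (6, 10, true) [39, 40] (10, 1, false) = true := by decide +kernel

theorem c9 : cer (1, 3, false) [36, 39, 42, 41] (4, 1, true) = true := by decide +kernel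

theorem c10 : cer (1, 3, true) [36, 39, 42, 41] (4, 1, true) = true := by decide +kernel

theorem c11 : cer (2, 2, false) [36, 39, 42, 41] (4, 1, true) = true := by decide +kernel

theorem c12 : cer (2, 2, true) [36, 39, 42, 41] (4, 1, true) = true := by decide +kernel

theorem c13 : cer (3, 4, false) [36, 39, 42, 41] (4, 1, true) = true := by decide +kernel

theorem c14 : cer (3, 4, true) [36, 39, 42, 41] (4, 1, true) = true := by decide +kernel

theorem c15 : cer (3, 5, true) [36, 39, 42, 40] (4, 1, true) = true := by decide +kernel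

theorem c16 : cer (4, 2, true) [36, 39, 42, 40] (4, 1, true) = true := by decide +kernel

theorem c17 : cer (7, 3, false) [36, 39, 42, 40] (4, 1, true) = true := by decide +kernel

theorem c18 : cer (9, 6, true) [36, 39, 42, 41] (4, 1, true) = true := by decide +kernel

theorem c19 : cer (8, 6, true) [39, 41] (9, 6, true) = true := by decide +kernel

theorem c20 : cer (11, 11, true) [41] (8, 6, true) = true := by decide +kernel

theorem c21 : cer (9, 4, false) [39, 41] (9, 6, true) = true := by decide +kernel

theorem c22 : cer (11, 8, false) [36, 39, 42, 40] (9, 6, true) = true := by decide +kernel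

theorem c23 : cer (10, 0, true) [25, 39, 42, 42, 25, 41] (4, 1, true) = true := by decide +kernel

theorem c24 : cer (6, 3, true) [39, 40, 36, 39, 42, 41] (9, 6, true) = true := by decide +kernel

/-- The certificates of this file. -/
def L : List (Ent × List ℕ × Ent) := [
  ((9, 0, false), [39, 40], (4, 1, false)),
  ((3, 5, false), [36, 39, 42, 41], (4, 1, false)),
  ((4, 0, true), [36, 39, 42, 41], (4, 1, false)),
  ((4, 3, true), [36, 39, 42, 40], (4, 1, false)),
  ((11, 0, true), [25, 39, 42, 42, 25, 41, 39, 40], (8, 10, false)),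
  ((4, 0, false), [25, 39, 42, 42, 25, 41, 39, 41], (4, 1, false)),
  ((10, 1, false), [39, 41], (4, 1, true)),
  ((6, 10, false), [39, 40], (10, 1, false)),
  ((6, 10, true), [39, 40], (10, 1, false)),
  ((1, 3, false), [36, 39, 42, 41], (4, 1, true)),
  ((1, 3, true), [36, 39, 42, 41], (4, 1, true)),
  ((2, 2, false), [36, 39, 42, 41], (4, 1, true)),
  ((2, 2, true), [36, 39, 42, 41], (4, 1, true)),
  ((3, 4, false), [36, 39, 42, 41], (4, 1, true)),
  ((3, 4, true), [36, 39, 42, 41], (4, 1, true)),
  ((3, 5, true), [36, 39, 42, 40], (4, 1, true)),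
  ((4, 2, true), [36, 39, 42, 40], (4, 1, true)),
  ((7, 3, false), [36, 39, 42, 40], (4, 1, true)),
  ((9, 6, true), [36, 39, 42, 41], (4, 1, true)),
  ((8, 6, true), [39, 41], (9, 6, true)),
  ((11, 11, true), [41], (8, 6, true)),
  ((9, 4, false), [39, 41], (9, 6, true)),
  ((11, 8, false), [36, 39, 42, 40], (9, 6, true)),
  ((10, 0, true), [25, 39, 42, 42, 25, 41], (4, 1, true)),
  ((6, 3, true), [39, 40, 36, 39, 42, 41], (9, 6, true))]

theorem ok : ∀ r ∈ L, cer r.1 r.2.1 r.2.2 = true := by
  simp only [L, List.forall_mem_cons, List.not_mem_nil, false_imp_iff, implies_true, and_true]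
  exact ⟨c0, c1, c2, c3, c4, c5, c6, c7, c8, c9, c10, c11, c12, c13, c14, c15, c16, c17, c18, c19, c20, c21, c22, c23, c24⟩

end Cfsg.Agent.H816.MCer2
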