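import Mathlib
import Cfsg.Agent.H831.T8
import Cfsg.Agent.R08.TetFi24B
import Cfsg.Agent.R08.NoFpf
import Cfsg.Agent.H816.OutInv
import Cfsg.Agent.H816.Conc

set_option autoImplicit false
set_option linter.style.haveILetI false

/-!
# Fischer groups of type `T8`: the involutions

`loc` : `G' ∩ C(a, b) → Fi22` with kernel `⟨ab⟩`, for `a ≠ b` commuting in `D`; `pre` : the structure
`R08.TetPair.Pre` for `(D, G', T)`; `cover` : every involution of `G` is the product of at most four distinct
commuting members of `D`.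
-/

namespace Cfsg.Agent.H816.PreEight

open Cfsg Cfsg.Agent.SporadicStructure.FischerSpace Cfsg.Agent.ThreeTransPolar.Basic
open Cfsg.Agent.ThreeTransPolar.Lines
open Cfsg.Agent.Fischer160.Inherit hiding Dx
open Cfsg.Agent.Fischer480.Defs hiding FGroup
open Cfsg.Agent.TSp.Orders
open Cfsg.Agent.R01.Lifts (Ext)
open Cfsg.Agent.R01.Start (zel)
open Cfsg.Agent.H831

universe u

variable {G : Type u} [Group G] {D : Set G}

section Eight

variable [Finite G] (F : FGroup D) (h : IsT8 D)
include F h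

/-- **The projection of `G' ∩ C(a, b)` onto `Fi22`.** -/
theorem loc {a b : G} (ha : a ∈ D) (hb : b ∈ D) (hne : a ≠ b) (hab : Commute a b) :
    ∃ π : ↥(commutator G ⊓ Subgroup.centralizer {a, b}) →* Cfsg.Spor.Fi22,
      Function.Surjective π ∧
      (∀ x : ↥(commutator G ⊓ Subgroup.centralizer {a, b}),
        π x = 1 ↔ (x : G) = 1 ∨ (x : G) = a * b) ∧
      (∀ c ∈ D, c ≠ a → c ≠ b → Commute c a → Commute c b →
        ∀ x : ↥(commutator G ⊓ Subgroup.centralizer {a, b}), (x : G) = a * c →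
          π x ∈ Cfsg.Agent.R01.Fi22Facts.T) ∧
      (∀ t ∈ Cfsg.Agent.R01.Fi22Facts.T, ∃ c ∈ D, c ≠ a ∧ c ≠ b ∧ Commute c a ∧ Commute c b ∧
        ∃ x : ↥(commutator G ⊓ Subgroup.centralizer {a, b}), (x : G) = a * c ∧ π x = t) ∧
      (∀ c ∈ D, c ≠ a → c ≠ b → Commute c a → Commute c b →
        ∀ c' ∈ D, c' ≠ a → c' ≠ b → Commute c' a → Commute c' b →
        ∀ x y : ↥(commutator G ⊓ Subgroup.centralizer {a, b}),
          (x : G) = a * c → (y : G) = a * c' → π x = π y → c = c') := by
  have hbl : b ∈ Loc D a := ⟨hb, hne.symm, hab⟩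
  have hsa : a * a = 1 := F.fd.sq a ha
  obtain ⟨FE, hE⟩ := T8.sub F h ha
  have htha : Thin D a := thin_of_thinLines (T8.thin F h) ha
  have hbb : β D a b ∈ Eb D a := β_mem hbl
  obtain ⟨e, ρ, hρ, hρe, heT⟩ := T7Iso.exists_ext FE hE hbb
  have hthb : Thin (Eb D a) (β D a b) := thin_of_thinLines (T7Iso.thin FE hE hbb) hbb
  obtain ⟨μ, hμ⟩ := T8.exists_mulEquiv_cent F h ha {b} (by rintro _ rfl; exact hbl)
  have hHa : a ∈ HH D a := T8.mem_HH_self F h ha
  have hHb : b ∈ HH D a := mem_HH_of hbl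
  have hself : β D a a = 1 := T8.β_self F h ha
  have himg : (β D a '' {b}) = {β D a b} := Set.image_singleton
  let ν : ↥(Subgroup.centralizer (β D a '' {b})) ≃*
      ↥(Subgroup.centralizer ({β D a b} : Set (KK D a))) :=
    MulEquiv.subgroupCongr (by rw [himg])
  let π : ↥(commutator G ⊓ Subgroup.centralizer {a, b}) →* Cfsg.Spor.Fi22 :=
    ρ.comp (ν.toMonoidHom.comp μ.toMonoidHom)
  have hπ : ∀ x : ↥(commutator G ⊓ Subgroup.centralizer {a, b}),
      π x = e (β (Eb D a) (β D a b) (β D a (x : G))) := by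
    intro x
    have h1 : π x = ρ (ν (μ x)) := rfl
    rw [h1, hρe]
    have h2 : ((ν (μ x) : ↥(Subgroup.centralizer ({β D a b} : Set (KK D a)))) : KK D a) =
        ((μ x : ↥(Subgroup.centralizer (β D a '' {b}))) : KK D a) := rfl
    rw [h2, hμ]
  have hnb : b ∉ commutator G := T8.not_mem_commutator F h hb
  -- the member `c`
  have hc : ∀ c ∈ D, c ≠ a → c ≠ b → Commute c a → Commute c b →
      c ∈ Loc D a ∧ β D a c ∈ Loc (Eb D a) (β D a b) := by
    intro c hcD nca ncb cca ccb
    have h1 : c ∈ Loc D a := ⟨hcD, nca, cca.symm⟩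
    refine ⟨h1, β_mem h1, ?_, ?_⟩
    · intro h2
      exact ncb (β_inj htha h1 hbl h2)
    · exact (β_commute F.fd htha hbl h1).2 ccb.symm
  have hac : ∀ c ∈ Loc D a, β D a (a * c) = β D a c := by
    intro c hc'
    rw [β_mul hHa (mem_HH_of hc'), hself, one_mul]
  refine ⟨π, ?_, ?_, ?_, ?_, ?_⟩
  · exact hρ.surj.comp (ν.surjective.comp μ.surjective)
  · intro x
    have hxC : (x : G) ∈ commutator G := x.2.1
    have hx2 := Subgroup.mem_centralizer_iff.1 x.2.2
    have hxa : Commute (x : G) a := (hx2 a (Set.mem_insert _ _)).symm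
    have hxH : (x : G) ∈ HH D a := (T8.mem_HH_iff F h ha).2 hxa
    have h1 : π x = 1 ↔ ν (μ x) = 1 ∨ ν (μ x) = zel (β D a b) := hρ.ker _
    rw [h1]
    have h2 : ν (μ x) = 1 ↔ (x : G) = 1 := by
      rw [MulEquiv.map_eq_one_iff, MulEquiv.map_eq_one_iff]
      constructor
      · intro h3; rw [h3]; rfl
      · intro h3; exact Subtype.ext h3
    have h3 : ν (μ x) = zel (β D a b) ↔ (x : G) = a * b := by
      have h4 : ν (μ x) = zel (β D a b) ↔ β D a (x : G) = β D a b := by
        rw [← hμ x]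
        constructor
        · intro h5
          exact congrArg Subtype.val h5
        · intro h5
          exact Subtype.ext h5
      rw [h4]
      constructor
      · intro h5
        have hco : Commute ((x : G) * b⁻¹) a := hxa.mul_left (hab.symm.inv_left)
        have h6 : β D a ((x : G) * b⁻¹) = 1 := by
          rw [β_mul hxH (inv_mem hHb), β_inv hHb, h5, mul_inv_cancel]
        rcases (T8.β_eq_one F h ha hco).1 h6 with h7 | h7
        · exfalso
          apply hnb
          rw [mul_inv_eq_one] at h7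
          rw [← h7]
          exact hxC
        · rw [mul_inv_eq_iff_eq_mul] at h7
          exact h7
      · intro h5
        rw [h5, hac b hbl]
    rw [h2, h3]
  · intro c hcD nca ncb cca ccb x hx
    obtain ⟨h1, h2⟩ := hc c hcD nca ncb cca ccb
    rw [hπ, hx, hac c h1, ← heT]
    exact Set.mem_image_of_mem _ (β_mem h2)
  · intro t ht
    rw [← heT] at ht
    obtain ⟨w, hw, rfl⟩ := ht
    obtain ⟨c', hc', rfl⟩ := β_surj hw
    obtain ⟨c, hcl, rfl⟩ := β_surj hc'.1
    have ncb : c ≠ b := by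
      rintro rfl
      exact hc'.2.1 rfl
    have ccb : Commute c b := ((β_commute F.fd htha hbl hcl).1 hc'.2.2).symm
    refine ⟨c, hcl.1, hcl.2.1, ncb, hcl.2.2.symm, ccb, ⟨a * c, ?_, ?_⟩, rfl, ?_⟩
    · exact T8.mul_mem_commutator F ha hcl.1
    · refine Subgroup.mem_centralizer_iff.2 ?_
      rintro y (rfl | hy)
      · exact ((Commute.refl y).mul_right hcl.2.2).eq
      · rw [Set.mem_singleton_iff] at hy
        rw [hy]
        exact (hab.symm.mul_right ccb.symm).eq
    · rw [hπ]
      show e (β (Eb D a) (β D a b) (β D a (a * c))) = _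
      rw [hac c hcl]
  · intro c hcD nca ncb cca ccb c' hcD' nca' ncb' cca' ccb' x y hx hy hxy
    obtain ⟨h1, h2⟩ := hc c hcD nca ncb cca ccb
    obtain ⟨h1', h2'⟩ := hc c' hcD' nca' ncb' cca' ccb'
    rw [hπ, hπ, hx, hy, hac c h1, hac c' h1'] at hxy
    exact β_inj htha h1 h1' (β_inj hthb h2 h2' (e.injective hxy))

/-- **The structure `Pre`** -/
theorem pre : Cfsg.Agent.R08.TetPair.Pre D (commutator G) Cfsg.Agent.R01.Fi22Facts.T where
  ne := F.fd.nonempty
  sq := F.fd.sq
  conj := F.fd.conj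
  three a ha b hb := by
    by_cases hc : Commute a b
    · exact Or.inl hc
    · exact Or.inr (F.fd.braid a ha b hb hc)
  even a ha b hb := T8.mul_mem_commutator F ha hb
  oddc a ha := by
    have h1 : {c | c ∈ D ∧ c ≠ a ∧ Commute c a} = Loc D a := by
      ext c
      exact ⟨fun h => ⟨h.1, h.2.1, h.2.2.symm⟩, fun h => ⟨h.1, h.2.1, h.2.2.symm⟩⟩
    rw [h1, (h.2.1 a ha).1]
    decide
  loc a ha b hb hne hab := loc F h ha hb hne hab

/-- every involution commutes with a transposition -/
theorem exists_comm {t : G} (htt : t * t = 1) : ∃ f ∈ D, Commute t f := by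
  refine OutInv.exists_commute (pre F h) (fun θ h2 hall =>
    Cfsg.Agent.R08.NoFpf.fi22_no_fpf θ (fun t ht => (hall t ht).1) h2 (fun t ht => (hall t ht).2.1)
      (fun t ht => (hall t ht).2.2)) (fun x hx => ?_) htt
  have h1 := (inferInstance : (commutator G).Normal).conj_mem x hx t
  rwa [inv_eq_of_mul_eq_one_left htt] at h1

/-- **every involution is the product of at most four distinct commuting transpositions** -/
theorem cover : Prods.Cover D 4 := by
  intro t htt ht1
  obtain ⟨f, hf, hc⟩ := exists_comm F h htt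
  obtain ⟨FE, hE⟩ := T8.sub F h hf
  have htH : t ∈ HH D f := (T8.mem_HH_iff F h hf).2 hc
  by_cases h1 : β D f t = 1
  · rcases (T8.β_eq_one F h hf hc).1 h1 with h2 | h2
    · exact absurd h2 ht1
    · refine ⟨[f], Prods.Good.nil.cons hf (by simp) (by simp), by simp, ?_⟩
      rw [List.prod_singleton, h2]
  · obtain ⟨y, hy⟩ := FE.fd.nonempty
    obtain ⟨e, -, he, -⟩ := T8.exists_iso_KK F h hf hy
    have hcov : Prods.Cover (Eb D f) 3 := by
      refine Conc.cover_fi23.map e ?_
      ext y
      constructor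
      · rintro ⟨x, hx, rfl⟩
        exact (he x).2 hx
      · intro hy
        refine ⟨e.symm y, (he _).1 ?_, e.apply_symm_apply y⟩
        rwa [e.apply_symm_apply]
    obtain ⟨l, hl, hlen, hp⟩ := hcov (β D f t) (by
      rw [← β_mul htH htH, htt, β_of (one_mem _)]; rfl) h1
    obtain ⟨l', k1, k2, k3, k4, k5, -⟩ := Cent.exists_lift_list F hf (T8.theta F h) (T8.thin F h) l
      hl.mem hl.nodup hl.comm
    have hg : Prods.Good D l' := ⟨k3, fun a ha => (k2 a ha).1, k4⟩
    have hlH : ∀ m : List G, (∀ b ∈ m, b ∈ Loc D f) → m.prod ∈ HH D f ∧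
        β D f m.prod = (m.map (β D f)).prod := by
      intro m
      induction m with
      | nil =>
        intro _
        refine ⟨one_mem _, ?_⟩
        rw [List.prod_nil, List.map_nil, List.prod_nil, β_of (one_mem _)]; rfl
      | cons a m ih =>
        intro hm
        obtain ⟨i1, i2⟩ := ih (fun b hb => hm b (List.mem_cons_of_mem _ hb))
        have ha : a ∈ HH D f := mem_HH_of (hm a List.mem_cons_self)
        refine ⟨?_, ?_⟩
        · rw [List.prod_cons]; exact mul_mem ha i1
        · rw [List.prod_cons, List.map_cons, List.prod_cons, β_mul ha i1, i2]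
    obtain ⟨i1, i2⟩ := hlH l' k2
    have h3 : β D f (t * l'.prod⁻¹) = 1 := by
      rw [β_mul htH (inv_mem i1), β_inv i1, i2, k5, hp, mul_inv_cancel]
    have hco : Commute (t * l'.prod⁻¹) f :=
      hc.mul_left ((T8.mem_HH_iff F h hf).1 i1).inv_left
    rcases (T8.β_eq_one F h hf hco).1 h3 with h4 | h4
    · rw [mul_inv_eq_one] at h4
      exact ⟨l', hg, by omega, h4.symm⟩
    · rw [mul_inv_eq_iff_eq_mul] at h4
      refine ⟨f :: l', hg.cons hf ?_ ?_, by rw [List.length_cons]; omega, by
        rw [List.prod_cons, h4]⟩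
      · intro h5
        exact (k2 f h5).2.1 rfl
      · intro b hb
        exact (k2 b hb).2.2

end Eight

end Cfsg.Agent.H816.PreEight
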