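import Cfsg.Agent.R08.FrameA
import Cfsg.Agent.S2603
import Cfsg.Agent.H316.RedStmt
import Cfsg.Agent.H816.Red
import Cfsg.Agent.H816.FrameFacts2
import Cfsg.Agent.H816.OutEmb

/-!
# The hypotheses of S3234 give `Red.SetupW`
-/

set_option autoImplicit false
set_option linter.unusedSectionVars false

namespace Cfsg.Agent.H816.Shape

open scoped commutatorElement
open Subgroup Cfsg Cfsg.Agent.Co2Type.Quad Cfsg.Agent.R08.Frame Cfsg.Agent.H816.Mono6 Cfsg.Agent.H816.FrameFacts
  Cfsg.Agent.SporadicStructure.FieldNine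
open Cfsg.Agent.H316.Red (Ce Jz mem_Jz perfect_le_of_solvable large_E card_Jz normalizer_le_normalizer_map
  card_mul_relIndex')
open Cfsg.Agent.H816.Red (SetupW)

theorem card_out : Nat.card (Cfsg.Out (Cfsg.PSU 4 K9 3)) = 8 := by
  have : Fact (Nat.Prime 3) := ⟨Nat.prime_three⟩
  obtain ⟨φ, h1, -, h3⟩ := Cfsg.Agent.S2603.result (K := K9) (p := 3) (f := 1) (q := 3) (n := 4) le_rfl (by norm_num)
    (by rw [K9.card_K9']) (by norm_num) (by norm_num)
  have h2 := φ.ker.card_mul_index
  rw [index_ker, MonoidHom.range_eq_top.2 h1, card_top, h3] at h2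
  rw [← h2]
  have : Nat.card (Multiplicative (ZMod (2 * 1))) = 2 := by
    rw [Nat.card_congr Multiplicative.toAdd, Nat.card_zmod]
  rw [this]
  decide

/-- a quotient isomorphic to a perfect group -/
theorem le_commutator_sup {C : Type*} [Group C] {N M : Subgroup C} [N.Normal] {P : Type*} [Group P]
    (e : (M ⧸ N.subgroupOf M) ≃* P) (hP : commutator P = ⊤) : M ≤ ⁅M, M⁆ ⊔ N := by
  let p : M →* P := e.toMonoidHom.comp (QuotientGroup.mk' (N.subgroupOf M))
  have hp : Function.Surjective p := e.surjective.comp (QuotientGroup.mk'_surjective _)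
  have h1 : (commutator M).map p = ⊤ := by
    rw [commutator_def, Subgroup.map_commutator, ← MonoidHom.range_eq_map, MonoidHom.range_eq_top.2 hp,
      ← commutator_def, hP]
  intro m hm
  have h2 : p ⟨m, hm⟩ ∈ (commutator M).map p := by rw [h1]; trivial
  obtain ⟨x, hx, hxm⟩ := h2
  have h3 : (x : C) ∈ ⁅M, M⁆ := by
    have h4 : (commutator M).map M.subtype = ⁅M, M⁆ := by
      rw [commutator_def, Subgroup.map_commutator, ← MonoidHom.range_eq_map, range_subtype]
    rw [← h4]
    exact ⟨x, hx, rfl⟩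
  have h5 : (x : C)⁻¹ * m ∈ N := by
    have h6 : p (x⁻¹ * ⟨m, hm⟩) = 1 := by rw [map_mul, map_inv, hxm, inv_mul_cancel]
    have h7 : (QuotientGroup.mk' (N.subgroupOf M)) (x⁻¹ * ⟨m, hm⟩) = 1 := by
      apply e.injective
      rw [map_one]
      exact h6
    have h8 := (QuotientGroup.eq_one_iff _).1 h7
    exact mem_subgroupOf.1 h8
  have h6 : m = x * ((x : C)⁻¹ * m) := by group
  rw [h6]
  exact mul_mem (mem_sup_left h3) (mem_sup_right h5)

theorem eq_or_eq {C : Type*} [Group C] {N M : Subgroup C} [N.Normal]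
    (hs : IsSimpleGroup (M ⧸ N.subgroupOf M)) (Y : Subgroup C) (hY : Y.Normal) (h1 : N ≤ Y) (h2 : Y ≤ M) :
    Y = N ∨ Y = M := by
  have hn : (Y.subgroupOf M).Normal := inferInstance
  have h3 := hs.eq_bot_or_eq_top_of_normal ((Y.subgroupOf M).map (QuotientGroup.mk' (N.subgroupOf M)))
    (hn.map _ (QuotientGroup.mk'_surjective _))
  have h4 : ((Y.subgroupOf M).map (QuotientGroup.mk' (N.subgroupOf M))).comap (QuotientGroup.mk' (N.subgroupOf M)) =
      Y.subgroupOf M := by
    rw [comap_map_eq, QuotientGroup.ker_mk', sup_eq_left]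
    exact comap_mono h1
  rcases h3 with h3 | h3
  · left
    rw [h3, MonoidHom.comap_bot, QuotientGroup.ker_mk'] at h4
    apply le_antisymm _ h1
    intro y hy
    have h5 : (⟨y, h2 hy⟩ : M) ∈ Y.subgroupOf M := hy
    rw [← h4] at h5
    exact h5
  · right
    rw [h3, comap_top] at h4
    apply le_antisymm h2
    intro y hy
    have h5 : (⟨y, hy⟩ : M) ∈ (⊤ : Subgroup M) := trivial
    rw [h4] at h5
    exact h5

section

variable {G : Type*} [Group G] [Finite G] {z : G}

/-- **The setup.** -/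
theorem setup (hz : orderOf z = 2) (hJ : IsExtraspecial 2 (pCore 2 (Ce z))) (hJc : Nat.card (pCore 2 (Ce z)) = 2 ^ 13)
    (hCJ : centralizer (pCore 2 (Ce z) : Set (Ce z)) ≤ pCore 2 (Ce z))
    (N M : Subgroup (Ce z)) [hNn : N.Normal] [hMn : M.Normal] (hQN : pCore 2 (Ce z) ≤ N) (hNM : N ≤ M)
    (hN : Nat.card N = 3 * Nat.card (pCore 2 (Ce z)))
    (e : (M ⧸ N.subgroupOf M) ≃* PSU 4 K9 3) :
    SetupW z (Jz z) (M.map (Ce z).subtype) ∧ Nat.card (M.map (Ce z).subtype) = 2 ^ 20 * 76545 ∧ M.index ∣ 8 ∧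
      ⁅M, M⁆ = M := by
  classical
  have : Fact (Nat.Prime 2) := ⟨Nat.prime_two⟩
  have hQc := Cfsg.Agent.Lib.Cores.pCore_characteristic (G := Ce z) 2
  have hQn : (pCore 2 (Ce z)).Normal := inferInstance
  have hL : Large (Jz z) z := large_E hz hJ hCJ
  have hfin : Finite (GaloisField 2 2) := Nat.finite_of_card_ne_zero (by
    rw [GaloisField.card 2 2 (by norm_num)]; norm_num)
  let _ : Fintype (GaloisField 2 2) := Fintype.ofFinite _
  have hF4 : Fintype.card (GaloisField 2 2) = 4 := by
    rw [← Nat.card_eq_fintype_card, GaloisField.card 2 2 (by norm_num)]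
    norm_num
  obtain ⟨f⟩ := Cfsg.Agent.R08.FrameA.frameData_of_large (Q := pCore 2 (Ce z)) (N := N) (M := M) hL hJc hQN hNM hN K9
    K9.card_K9' e (GaloisField 2 2) (by rw [hF4]; norm_num)
  obtain ⟨w, hw, hw3, hF⟩ := exists_w hF4
  have hMp : ⁅M, M⁆ = M := perfect f hw hw3 hF (le_commutator_sup e Cfsg.Agent.R08.FrameA.perf_psu)
  have hsimpP : IsSimpleGroup (M ⧸ N.subgroupOf M) := by
    have : IsSimpleGroup (PSU 4 K9 3) := Cfsg.Agent.S0283.result (F := K9) (q := 3) K9.card_K9' 4 (by norm_num)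
      (by norm_num)
    exact e.isSimpleGroup
  have hFN : Fact (pCore 2 (Ce z) ≤ N) := ⟨hQN⟩
  have hFM : Fact (N ≤ M) := ⟨hNM⟩
  have hidx : M.index ∣ 8 := by
    rw [← card_out]
    exact Cfsg.Agent.H816.OutEmb.index_dvd_of_section N M hNM e fun c hc =>
      hNM (mem_N_of_comm f hw hw3 hF c hc)
  have hcM : Nat.card (M.map (Ce z).subtype) = 2 ^ 20 * 76545 := by
    rw [card_map_of_injective (Ce z).subtype_injective, f.card_M, card_map_of_injective (Ce z).subtype_injective, hJc]; norm_num
  have hsol : Group.IsSolvable (Ce z ⧸ M) := by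
    have h1 : IsPGroup 2 (Ce z ⧸ M) := by
      obtain ⟨n, -, hn⟩ := (Nat.dvd_prime_pow (m := 3) Nat.prime_two).1 (by simpa using hidx)
      exact IsPGroup.of_card (n := n) hn
    have := h1.isNilpotent
    infer_instance
  have hdich := dich f hQN hNM hw hw3 hF hMp (eq_or_eq hsimpP)
  have hJp : IsPGroup 2 (pCore 2 (Ce z)) := Cfsg.Agent.Lib.Cores.pCore_isPGroup 2
  have hzCe : z ∈ Ce z := mem_centralizer_singleton_iff.2 rfl
  have hmap : ∀ N : Subgroup G, N ≤ Ce z → (N.subgroupOf (Ce z)).map (Ce z).subtype = N := by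
    intro N hN
    rw [subgroupOf_map_subtype, inf_eq_left.2 hN]
  have hnorm : ∀ N : Subgroup G, N ≤ Ce z → Ce z ≤ normalizer (N : Set G) → (N.subgroupOf (Ce z)).Normal := by
    intro N hN hn
    rw [normal_subgroupOf_iff_le_normalizer hN]; exact hn
  have hzQ : (⟨z, hzCe⟩ : Ce z) ∈ pCore 2 (Ce z) := by
    apply hCJ
    rw [mem_centralizer_iff]
    intro x _
    exact Subtype.ext (mem_centralizer_singleton_iff.1 x.2)
  -- a normal subgroup of `C(z)` inside `J`
  have hsm : ∀ W : Subgroup G, W ≤ Jz z → Ce z ≤ normalizer (W : Set G) → (∀ x ∈ W, x = 1 ∨ x = z) ∨ Jz z ≤ W := by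
    intro W hW hn
    have hWC : W ≤ Ce z := hW.trans (map_subtype_le _)
    have h1 := hnorm W hWC hn
    rcases irr_sub f hw (W.subgroupOf (Ce z)) with h2 | h2
    · left
      intro x hx
      obtain ⟨h3, h4⟩ := mem_Jz.1 (hW hx)
      exact h2 ⟨x, h3⟩ hx h4
    · right
      have h3 := map_mono (f := (Ce z).subtype) h2
      rwa [hmap W hWC] at h3
  have hna : ¬ ∀ x ∈ Jz z, ∀ y ∈ Jz z, x * y = y * x := by
    intro hab
    have h1 : Jz z ≤ zpowers z := by
      intro x hx
      rcases hL.cent x hx (hab x hx) with h2 | h2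
      · rw [h2]; exact one_mem _
      · rw [h2]; exact mem_zpowers z
    have h2 := card_dvd_of_le h1
    rw [card_Jz hJc, Nat.card_zpowers, hz] at h2
    exact absurd (Nat.le_of_dvd (by norm_num) h2) (by norm_num)
  refine ⟨?_, hcM, hidx, hMp⟩
  refine
    { hz := hz
      J_le := map_subtype_le _
      J_norm := (le_normalizer : Ce z ≤ _).trans
        (normalizer_le_normalizer_map _ (Cfsg.Agent.Lib.Cores.pCore_characteristic 2))
      J_two := hJp.map _
      J_max := ?_
      J_cent := ?_
      J_comm := ?_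
      X_le := map_subtype_le _
      X_perfect := by rw [← map_commutator, hMp]
      X_max := ?_
      X_not := ?_
      small := ?_
      act := ?_
      dich := ?_ }
  · intro N' hN' hn hp
    have h1 := hnorm N' hN' hn
    have h2 : N'.subgroupOf (Ce z) ≤ pCore 2 (Ce z) :=
      Cfsg.Agent.Lib.Cores.le_pCore h1 (hp.comap_of_injective _ (subtype_injective _))
    have h3 := map_mono (f := (Ce z).subtype) h2
    rwa [hmap N' hN'] at h3
  · rintro x ⟨hx, hxc⟩
    refine mem_Jz.2 ⟨hx, hCJ ?_⟩
    rw [mem_centralizer_iff]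
    intro j hj
    apply Subtype.ext
    exact mem_centralizer_iff.1 hxc (j : G) ⟨j, hj, rfl⟩
  · apply le_antisymm
    · rw [commutator_le]
      intro x hx y hy
      rcases hL.comm x hx y hy with h1 | h1
      · rw [commutatorElement_eq_one_iff_mul_comm.2 h1]; exact one_mem _
      · have h2 := hL.comm_z y hy
        have h3 := hL.comm_z x hx
        have h4 : ⁅x, y⁆ = z := by
          rw [commutatorElement_def, h1]
          calc y * x * z * x⁻¹ * y⁻¹ = y * (x * z) * x⁻¹ * y⁻¹ := by group
            _ = y * (z * x) * x⁻¹ * y⁻¹ := by rw [h3]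
            _ = y * z * y⁻¹ := by group
            _ = z := by rw [h2]; group
        rw [h4]; exact mem_zpowers z
    · rw [zpowers_le]
      push Not at hna
      obtain ⟨x, hx, y, hy, hxy⟩ := hna
      have h1 : ⁅x, y⁆ ∈ ⁅Jz z, Jz z⁆ := commutator_mem_commutator hx hy
      have h2 := (hL.comm x hx y hy).resolve_left hxy
      have h4 := hL.comm_z y hy
      have h5 := hL.comm_z x hx
      have h3 : ⁅x, y⁆ = z := by
        rw [commutatorElement_def, h2]
        calc y * x * z * x⁻¹ * y⁻¹ = y * (x * z) * x⁻¹ * y⁻¹ := by group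
          _ = y * (z * x) * x⁻¹ * y⁻¹ := by rw [h5]
          _ = y * z * y⁻¹ := by group
          _ = z := by rw [h4]; group
      rw [h3] at h1; exact h1
  · intro Y hY hYp
    have h1 : Y.subgroupOf (Ce z) ≤ M := by
      apply perfect_le_of_solvable (N := M) _ hsol
      apply map_injective (Ce z).subtype_injective
      rw [map_commutator, hmap Y hY, hYp]
    have h2 := map_mono (f := (Ce z).subtype) h1
    rwa [hmap Y hY] at h2
  · intro hle
    have h1 := card_dvd_of_le hle
    rw [hcM, card_Jz hJc] at h1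
    exact absurd (Nat.le_of_dvd (by norm_num) h1) (by norm_num)
  · intro N' hN' hn hzN
    have h1 := hnorm N' hN' hn
    have h2 : N' ≤ Jz z := by
      rcases le_or_ge f hw (N'.subgroupOf (Ce z)) with h2 | h2
      · have h3 := map_mono (f := (Ce z).subtype) h2
        rwa [hmap N' hN'] at h3
      · exact absurd (h2 hzQ) hzN
    rcases hsm N' h2 hn with h3 | h3
    · have h4 : N' = ⊥ := by
        rw [eq_bot_iff_forall]
        intro x hx
        rcases h3 x hx with h4 | h4
        · exact h4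
        · rw [h4] at hx; exact absurd hx hzN
      rw [h4, card_bot]; norm_num
    · exact absurd (h3 (mem_Jz.2 ⟨hzCe, hzQ⟩)) hzN
  · intro W hW hn hab
    rcases hsm W hW hn with h3 | h3
    · rintro _ ⟨x, hx, rfl⟩
      rw [mem_centralizer_iff]
      intro y hy
      rcases h3 y hy with h4 | h4
      · rw [h4, one_mul, mul_one]
      · rw [h4]
        exact (mem_centralizer_singleton_iff.1 x.2).symm
    · exact absurd (fun x hx y hy => hab x (h3 hx) y (h3 hy)) hna
  · intro N' hN' hn
    have h1 := hnorm N' hN' hn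
    rcases hdich (N'.subgroupOf (Ce z)) with h2 | h2 | ⟨h2, h3⟩
    · left
      have h3 := map_mono (f := (Ce z).subtype) h2
      rwa [hmap N' hN'] at h3
    · right; left
      have h3 := map_mono (f := (Ce z).subtype) h2
      rwa [hmap N' hN'] at h3
    · right; right
      have h4 := map_mono (f := (Ce z).subtype) h2
      have h5 := map_mono (f := (Ce z).subtype) h3
      rw [hmap N' hN'] at h4 h5
      refine ⟨h4, ?_⟩
      have h6 : (Jz z).relIndex N' ∣ (Jz z).relIndex (N.map (Ce z).subtype) := by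
        exact ⟨_, (relIndex_mul_relIndex _ _ _ h4 h5).symm⟩
      have h7 : (Jz z).relIndex (N.map (Ce z).subtype) = 3 := by
        have h8 : Jz z ≤ N.map (Ce z).subtype := map_mono hQN
        have h9 := card_mul_relIndex' h8
        rw [card_Jz hJc, card_map_of_injective (Ce z).subtype_injective, hN, hJc] at h9
        omega
      rw [h7] at h6
      rcases (Nat.dvd_prime Nat.prime_three).1 h6 with h8 | h8 <;> rw [h8] <;> decide

end

end Cfsg.Agent.H816.Shape
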